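import Groth.Agent.Lib.Cyc.C1K.Chow
import Groth.Agent.Lib.Cyc.FP.Rat
import Groth.Agent.Lib.TensorMod.Pullback
import Mathlib.CategoryTheory.Abelian.Exact

/-!
# Flat pullback commutes with `c₁`
-/

set_option autoImplicit false
set_option linter.style.haveILetI false
universe u

open CategoryTheory CategoryTheory.Limits AlgebraicGeometry

namespace Groth.Agent.Lib.Cyc.C1K.Pull

open Groth.Agent.Lib Groth.Agent.Lib.Cyc Groth.Agent.Lib.KRes

variable {X Y : Scheme.{u}} (f : X ⟶ Y) [Flat f] {δX : X → ℤ} {δY : Y → ℤ}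

local notation "pb" => Scheme.Modules.pullback f

instance additive_pullback : Functor.Additive (pb) :=
  (Scheme.Modules.pullbackPushforwardAdjunction f).left_adjoint_additive

theorem preservesFiniteLimits_pullback : PreservesFiniteLimits (pb) := by
  haveI : PreservesColimitsOfSize.{u, u} (pb) :=
    (Scheme.Modules.pullbackPushforwardAdjunction f).leftAdjoint_preservesColimits
  haveI : PreservesFiniteColimits (pb) := PreservesColimitsOfSize.preservesFiniteColimits _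
  haveI : (pb).PreservesMonomorphisms := ⟨fun g _ => FP.Stalk.mono_pullback f g⟩
  haveI : (pb).PreservesHomology := Functor.preservesHomology_of_preservesMonos_and_cokernels _
  exact Functor.preservesFiniteLimits_of_preservesHomology _

theorem shortExact_pullback {S : ShortComplex Y.Modules} (hS : S.ShortExact) :
    (S.map (pb)).ShortExact := by
  haveI := preservesFiniteLimits_pullback f
  haveI : PreservesColimitsOfSize.{u, u} (pb) :=
    (Scheme.Modules.pullbackPushforwardAdjunction f).leftAdjoint_preservesColimits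
  haveI : PreservesFiniteColimits (pb) := PreservesColimitsOfSize.preservesFiniteColimits _
  exact hS.map_of_exact (pb)

theorem cohLe_pullback (hδX : Cyc.IsDimFun X δX) {c : ℤ} (hc : FP.Main.Shift f δX δY c) {a : ℤ}
    {F : Y.Modules} (hF : Cyc.CohLe δY a F) : Cyc.CohLe δX (a + c) ((pb).obj F) :=
  ⟨FP.Stalk.isCoh_pullback f hF.1, fun x hx => FP.Main.delta_le_of_supp f hδX hc F hF.2 x hx⟩

/-- Flat pullback on the quotient `K₀`s. -/
noncomputable def pullK (hδX : Cyc.IsDimFun X δX) {c : ℤ} (hc : FP.Main.Shift f δX δY c) (a b a' b' : ℤ)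
    (ha : a + c ≤ a') (hb : b + c ≤ b') (hba : b ≤ a) :
    Cyc.K0CohQuot δY a b →+ Cyc.K0CohQuot δX a' b' :=
  QuotientAddGroup.lift _ (KSub.lift (fun F => Cyc.toK0CohQuot δX a' b' ((pb).obj F))
    fun S hS h₁ h₂ h₃ => K0.Cycles.mk_rel δX a' b' (shortExact_pullback f hS)
      (Retr.K0Tools.cohLe_mono ha (cohLe_pullback f hδX hc h₁))
      (Retr.K0Tools.cohLe_mono ha (cohLe_pullback f hδX hc h₂))
      (Retr.K0Tools.cohLe_mono ha (cohLe_pullback f hδX hc h₃))) <| by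
    refine (AddSubgroup.closure_le _).2 ?_
    rintro _ ⟨F, hF, rfl⟩
    rw [SetLike.mem_coe, AddMonoidHom.mem_ker, KSub.lift_cl _ _ (Retr.K0Tools.cohLe_mono hba hF)]
    exact K0.Cycles.mk_eq_zero δX a' b' (Retr.K0Tools.cohLe_mono hb (cohLe_pullback f hδX hc hF))

theorem pullK_cl (hδX : Cyc.IsDimFun X δX) {c : ℤ} (hc : FP.Main.Shift f δX δY c) (a b a' b' : ℤ)
    (ha : a + c ≤ a') (hb : b + c ≤ b') (hba : b ≤ a) {F : Y.Modules} (hF : Cyc.CohLe δY a F) :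
    pullK f hδX hc a b a' b' ha hb hba (Cyc.toK0CohQuot δY a b F) =
      Cyc.toK0CohQuot δX a' b' ((pb).obj F) := by
  rw [Cyc.toK0CohQuot, pullK, QuotientAddGroup.lift_mk, KSub.lift_cl _ _ hF]

/-- Pulling back the twist class. -/
theorem tw_pullback [IsLocallyNoetherian X] [IsLocallyNoetherian Y] (hδX : Cyc.IsDimFun X δX) {c : ℤ}
    (hc : FP.Main.Shift f δX δY c) {k k' : ℤ} (hk : k + c = k') {L : Y.Modules}
    (hL : PicF.IsInvertible L) {F : Y.Modules} (hF : Cyc.CohLe δY (k + 1) F) :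
    pullK f hδX hc (k + 1) (k - 1) (k' + 1) (k' - 1) (by omega) (by omega) (by omega)
        (Index.tw δY (k + 1) (k - 1) L F) =
      Index.tw δX (k' + 1) (k' - 1) ((pb).obj L) ((pb).obj F) := by
  have h1 := Main.cohLe_twist hL hF
  have hL' := PicLoc.isInvertible_pullback f hL
  have h2 : Cyc.CohLe δX (k' + 1) ((pb).obj F) :=
    Retr.K0Tools.cohLe_mono (by omega) (cohLe_pullback f hδX hc hF)
  have h3 : Cyc.CohLe δX (k' + 1) ((pb).obj (CohB1.tensorMod F L)) :=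
    Retr.K0Tools.cohLe_mono (by omega) (cohLe_pullback f hδX hc h1)
  rw [Index.tw, Index.tw, map_sub, pullK_cl f hδX hc _ _ _ _ _ _ _ h1,
    pullK_cl f hδX hc _ _ _ _ _ _ _ hF,
    Retr.K0Tools.cl_iso (TensorMod.Pullback.pullbackTensorIso f F L) h3 (Main.cohLe_twist hL' h2).1]

/-- `f^*(c₁(L) ∩ α) ∼ c₁(f^*L) ∩ f^*α`. -/
theorem ratEquiv_pull_c1 [IsLocallyNoetherian X] [IsLocallyNoetherian Y] (hδX : Cyc.IsDimFun X δX)
    (hδY : Cyc.IsDimFun Y δY) {c : ℤ} (hc : FP.Main.Shift f δX δY c) {L : Y.Modules}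
    (hL : PicF.IsInvertible L) {k k' : ℤ} (hk : k + c = k') {α : AlgebraicCycle Y ℤ}
    (hα : α ∈ Cyc.Zk Y δY (k + 1))
    (v : (η : Y) → Cyc.secFibre L η) (hv : ∀ η, v η ≠ 0)
    (u : (ξ : X) → Cyc.secFibre ((pb).obj L) ξ) (hu : ∀ ξ, u ξ ≠ 0) (γ₁ γ₂ : AlgebraicCycle X ℤ)
    (h₁ : ⇑γ₁ = Cyc.pullFun f δX δY c (Cyc.c1CapFun δY L ⇑α v))
    (h₂ : ⇑γ₂ = Cyc.c1CapFun δX ((pb).obj L) (Cyc.pullFun f δX δY c ⇑α) u) :
    Cyc.RatEquiv δX k' γ₁ γ₂ := by
  have hL' := PicLoc.isInvertible_pullback f hL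
  obtain ⟨hP, hN, hPN⟩ := Main.cycleSheaf_sub hδY α hα
  obtain ⟨A₁, B₁, hA₁, hB₁, e₁, f₁⟩ := Main.cl_twist_sub hL hδY hP v fun ξ _ => hv ξ
  obtain ⟨A₂, B₂, hA₂, hB₂, e₂, f₂⟩ := Main.cl_twist_sub hL hδY hN v fun ξ _ => hv ξ
  set P := Cyc.cycleSheafPos ⇑α
  set N := Cyc.cycleSheafNeg ⇑α
  have hP' : Cyc.CohLe δX (k' + 1) ((pb).obj P) :=
    Retr.K0Tools.cohLe_mono (by omega) (cohLe_pullback f hδX hc hP)
  have hN' : Cyc.CohLe δX (k' + 1) ((pb).obj N) :=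
    Retr.K0Tools.cohLe_mono (by omega) (cohLe_pullback f hδX hc hN)
  obtain ⟨A₃, B₃, hA₃, hB₃, e₃, f₃⟩ := Main.cl_twist_sub hL' hδX hP' u fun ξ _ => hu ξ
  obtain ⟨A₄, B₄, hA₄, hB₄, e₄, f₄⟩ := Main.cl_twist_sub hL' hδX hN' u fun ξ _ => hu ξ
  have t₁ := tw_pullback f hδX hc hk hL hP
  have t₂ := tw_pullback f hδX hc hk hL hN
  rw [Index.tw, Index.tw, e₁, e₃, map_sub, pullK_cl, pullK_cl] at t₁
  rw [Index.tw, Index.tw, e₂, e₄, map_sub, pullK_cl, pullK_cl] at t₂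
  all_goals try (first | exact Retr.K0Tools.cohLe_mono (by omega) hA₁ |
    exact Retr.K0Tools.cohLe_mono (by omega) hB₁ | exact Retr.K0Tools.cohLe_mono (by omega) hA₂ |
    exact Retr.K0Tools.cohLe_mono (by omega) hB₂)
  have hp : ∀ {M : Y.Modules}, Cyc.CohLe δY k M → Cyc.CohLe δX k' ((pb).obj M) := fun hM =>
    Retr.K0Tools.cohLe_mono (by omega) (cohLe_pullback f hδX hc hM)
  have e := fun {P Q : X.Modules} (hP : Cyc.CohLe δX k' P) (hQ : Cyc.CohLe δX k' Q) =>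
    K0.Cycles.mk_rel δX (k' + 1) (k' - 1)
      (ShortComplex.Splitting.ofHasBinaryBiproduct P Q).shortExact
      (Retr.K0Tools.cohLe_mono (by omega) hP)
      (Retr.K0Tools.cohLe_mono (by omega) (K0.Cycles.cohLe_biprod hP hQ))
      (Retr.K0Tools.cohLe_mono (by omega) hQ)
  refine Chow.ratEquivZero_of_cl hδX (K0.Cycles.cohLe_biprod (hp hA₁) (hp hB₂))
    (K0.Cycles.cohLe_biprod (hp hB₁) (hp hA₂))
    (K0.Cycles.cohLe_biprod hA₃ hB₄) (K0.Cycles.cohLe_biprod hB₃ hA₄) ?_ _ fun x => ?_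
  · have g1 := e (hp hA₁) (hp hB₂)
    have g2 := e (hp hB₁) (hp hA₂)
    have g3 := e hA₃ hB₄
    have g4 := e hB₃ hA₄
    dsimp only at g1 g2 g3 g4
    rw [g1, g2, g3, g4]
    linear_combination (norm := abel) t₁ - t₂
  · have hsplit : ∀ y, Cyc.c1CapFun δY L ⇑α v y =
        (Cyc.sheafFun δY k A₁ y - Cyc.sheafFun δY k B₁ y) -
          (Cyc.sheafFun δY k A₂ y - Cyc.sheafFun δY k B₂ y) := fun y => by
      rw [Chow.c1Cap_sub hδY hP hN (fun z => (hPN z).symm), f₁, f₂]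
    have hpull : ∀ y, Cyc.pullFun f δX δY c ⇑α y = Cyc.sheafFun δX (k' + 1) ((pb).obj P) y -
        Cyc.sheafFun δX (k' + 1) ((pb).obj N) y := fun y => by
      have e : ⇑α = fun z => Cyc.sheafFun δY (k + 1) P z - Cyc.sheafFun δY (k + 1) N z :=
        funext fun z => (hPN z).symm
      rw [e, FP.Rat.pullFun_sub, FP.Main.pullFun_sheafFun f hδX hc (k + 1) P hP.2,
        FP.Main.pullFun_sheafFun f hδX hc (k + 1) N hN.2, show k + 1 + c = k' + 1 by omega]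
    rw [Function.locallyFinsuppWithin.coe_sub, Pi.sub_apply, h₁, h₂, funext hsplit,
      Chow.c1Cap_sub hδX hP' hN' hpull, ← f₃, ← f₄,
      FP.Rat.pullFun_sub, FP.Rat.pullFun_sub, FP.Rat.pullFun_sub,
      FP.Main.pullFun_sheafFun f hδX hc k A₁ hA₁.2, FP.Main.pullFun_sheafFun f hδX hc k B₁ hB₁.2,
      FP.Main.pullFun_sheafFun f hδX hc k A₂ hA₂.2, FP.Main.pullFun_sheafFun f hδX hc k B₂ hB₂.2, hk,
      Chow.sheafFun_biprod hδX (hp hA₁) (hp hB₂), Chow.sheafFun_biprod hδX (hp hB₁) (hp hA₂),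
      Chow.sheafFun_biprod hδX hA₃ hB₄, Chow.sheafFun_biprod hδX hB₃ hA₄]
    ring

end Groth.Agent.Lib.Cyc.C1K.Pull
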