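import Groth.Agent.Lib.Cyc.C1K.Gen
import Groth.Agent.Lib.Cyc.C1Indep
import Groth.Agent.Lib.Snapper.Twist
import Groth.Agent.Lib.CurveBundle.Twist

/-!
# The divisor of a rational section of an invertible module as a difference of two cokernels
-/

set_option autoImplicit false
set_option linter.style.haveILetI false
universe u

open CategoryTheory CategoryTheory.Limits AlgebraicGeometry IsLocalRing

namespace Groth.Agent.Lib.Cyc.C1K.Twist

open Groth.Agent.Lib Groth.Agent.Lib.Cyc Groth.Agent.Lib.Cyc.Retr Groth.Agent.Lib.Cyc.Retr.Witness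
  Groth.Agent.Lib.Modules.StalkModule Groth.Agent.Lib.TensorMod Groth.Agent.Lib.TensorMod.Basic

variable {X : Scheme.{u}}

/-- The projection `O_X → O_Z`. -/
theorem exists_proj (ξ : X) : ∃ φ : Coh.structureModule X ⟶ Cyc.closureStructureSheaf ξ,
    ∀ y, stalkMapₗ φ y (C1.one y) = oneAt ξ y := by
  obtain ⟨φ, hφ⟩ := Gen.exists_hom_of_family (M := Cyc.closureStructureSheaf ξ)
    (fun W => QCoh.Localizing.res (Cyc.closureStructureSheaf ξ) (le_top : W ≤ ⊤) (Witness.one ξ))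
    (fun V W h => by
      change QCoh.Localizing.res _ h (QCoh.Localizing.res _ le_top _) = _
      exact QCoh.Localizing.res_res _ _ _)
  refine ⟨φ, fun y => ?_⟩
  refine (stalkMapₗ_germ φ (U := ⊤) (x := y) trivial _).trans ?_
  rw [hφ ⊤, Witness.res_one, Witness.germ_one]

theorem epi_proj {ξ : X} {φ : Coh.structureModule X ⟶ Cyc.closureStructureSheaf ξ}
    (hφ : ∀ y, stalkMapₗ φ y (C1.one y) = oneAt ξ y) : Epi φ := by
  rw [epi_iff_stalkMapₗ_surjective]
  intro y v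
  obtain ⟨r, rfl⟩ := exists_smul_oneAt ξ y v
  exact ⟨r • C1.one y, by rw [map_smul, hφ]⟩

theorem exists_unit_smul {ξ : X} {v : (Cyc.closureStructureSheaf ξ).presheaf.stalk ξ} (hv : v ≠ 0) :
    ∃ u : (X.presheaf.stalk ξ)ˣ, (u : X.presheaf.stalk ξ) • oneAt ξ ξ = v := by
  obtain ⟨r, rfl⟩ := exists_smul_oneAt ξ ξ v
  have hr : IsUnit r := by
    by_contra hu
    exact hv (smul_eq_zero_of_mem ξ ((mem_maximalIdeal r).2 hu) _)
  exact ⟨hr.unit, rfl⟩

/-- `L|_Z` with a nonzero rational section is a line on the closure. -/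
theorem exists_line {ξ : X} {L : X.Modules} (hL : PicF.IsInvertible L) (s : Cyc.secFibre L ξ)
    (hs : s ≠ 0) :
    ∃ T : Gen.Line ξ (CohB1.tensorMod (Cyc.closureStructureSheaf ξ) L),
      ∀ (x : X) (h : ξ ⤳ x) (t : L.presheaf.stalk x) (_ : Submodule.span (X.presheaf.stalk x) {t} = ⊤),
        ∃ (g : (CohB1.tensorMod (Cyc.closureStructureSheaf ξ) L).presheaf.stalk x)
          (φ : X.presheaf.stalk ξ) (u : (X.presheaf.stalk ξ)ˣ),
          (∀ v : (CohB1.tensorMod (Cyc.closureStructureSheaf ξ) L).presheaf.stalk x,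
            ∃ r : X.presheaf.stalk x, r • g = v) ∧
          (u : X.presheaf.stalk ξ) = φ ∧
          s = φ • (Submodule.Quotient.mk (L.presheaf.stalkSpecializes h t) : Cyc.secFibre L ξ) ∧
          T.e ((CohB1.tensorMod (Cyc.closureStructureSheaf ξ) L).presheaf.stalkSpecializes h g) =
            (↑u⁻¹ : X.presheaf.stalk ξ) • oneAt ξ ξ := by
  obtain ⟨φ, hφ⟩ := exists_proj ξ
  haveI := epi_proj hφ
  haveI := CurveBundle.Twist.isEquivalence hL
  let M := CohB1.tensorMod (Cyc.closureStructureSheaf ξ) L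
  haveI : Epi (tmap φ (𝟙 L)) := inferInstanceAs (Epi ((tensorBy L).map φ))
  let Ψ : L ⟶ M := (leftUnit L).inv ≫ tmap φ (𝟙 L)
  haveI : Epi Ψ := epi_comp _ _
  have hΨ : ∀ y, Function.Surjective (stalkMapₗ Ψ y) :=
    (epi_iff_stalkMapₗ_surjective Ψ).1 inferInstance
  have E : ∀ y, Nonempty (M.presheaf.stalk y ≃ₗ[X.presheaf.stalk y]
      (Cyc.closureStructureSheaf ξ).presheaf.stalk y) := fun y =>
    ⟨(stalkLinearEquiv (TensorMod.Basic.comm (Cyc.closureStructureSheaf ξ) L) y).trans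
      (Snapper.Twist.exists_stalkEquiv_twist hL _ y).some⟩
  replace E := fun y => (E y).some
  have hgen : ∀ (y : X) (t : L.presheaf.stalk y), Submodule.span (X.presheaf.stalk y) {t} = ⊤ →
      ∀ v : M.presheaf.stalk y, ∃ r : X.presheaf.stalk y, r • stalkMapₗ Ψ y t = v := by
    intro y t ht v
    obtain ⟨w, rfl⟩ := hΨ y v
    obtain ⟨r, rfl⟩ := Submodule.mem_span_singleton.1
      (show w ∈ Submodule.span (X.presheaf.stalk y) {t} by rw [ht]; trivial)
    exact ⟨r, (map_smul _ _ _).symm⟩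
  have hm : ∀ (a : X.presheaf.stalk ξ), ¬ IsUnit a → ∀ v : M.presheaf.stalk ξ, a • v = 0 :=
    fun a ha v => (E ξ).injective (by
      rw [map_smul, map_zero, smul_eq_zero_of_mem ξ ((mem_maximalIdeal a).2 ha)])
  have hgen0 : ∀ t : L.presheaf.stalk ξ, Submodule.span (X.presheaf.stalk ξ) {t} = ⊤ →
      stalkMapₗ Ψ ξ t ≠ 0 := fun t ht h0 => by
    obtain ⟨r, hr⟩ := hgen ξ t ht ((E ξ).symm (oneAt ξ ξ))
    rw [h0, smul_zero] at hr
    exact oneAt_ne_zero ξ (by rw [← (E ξ).apply_symm_apply (oneAt ξ ξ), ← hr, map_zero])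
  obtain ⟨vs, hvs⟩ := Submodule.Quotient.mk_surjective _ s
  have key : ∀ (t : L.presheaf.stalk ξ), Submodule.span (X.presheaf.stalk ξ) {t} = ⊤ →
      ∃ u : (X.presheaf.stalk ξ)ˣ, stalkMapₗ Ψ ξ vs = (u : X.presheaf.stalk ξ) • stalkMapₗ Ψ ξ t ∧
        s = (u : X.presheaf.stalk ξ) • (Submodule.Quotient.mk t : Cyc.secFibre L ξ) := fun t ht => by
    obtain ⟨a, ha⟩ := Submodule.mem_span_singleton.1
      (show vs ∈ Submodule.span (X.presheaf.stalk ξ) {t} by rw [ht]; trivial)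
    have hau : IsUnit a := by
      by_contra hu
      refine hs ?_
      rw [← hvs, ← ha, Submodule.Quotient.mk_eq_zero]
      exact Submodule.smul_mem_smul ((mem_maximalIdeal a).2 hu) trivial
    exact ⟨hau.unit, by rw [← ha, map_smul]; rfl, by rw [← hvs, ← ha]; rfl⟩
  obtain ⟨t₀, ht₀, -⟩ := C1Indep.exists_free_gen hL ξ
  obtain ⟨u₀, hu₀, -⟩ := key t₀ ht₀
  have hg0 : E ξ (stalkMapₗ Ψ ξ vs) ≠ 0 := fun h => hgen0 t₀ ht₀ (by
    have := (E ξ).map_eq_zero_iff.1 h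
    rw [hu₀] at this
    exact (u₀.isUnit.smul_eq_zero).1 this)
  obtain ⟨w, hw⟩ := exists_unit_smul hg0
  let e : M.presheaf.stalk ξ ≃ₗ[X.presheaf.stalk ξ] (Cyc.closureStructureSheaf ξ).presheaf.stalk ξ :=
    (E ξ).trans (LinearEquiv.smulOfUnit w⁻¹)
  have he : e (stalkMapₗ Ψ ξ vs) = oneAt ξ ξ := by
    show (↑w⁻¹ : X.presheaf.stalk ξ) • E ξ (stalkMapₗ Ψ ξ vs) = oneAt ξ ξ
    rw [← hw, smul_smul, Units.inv_mul, one_smul]
  have hspec : ∀ {y : X} (h : ξ ⤳ y) (t : L.presheaf.stalk y),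
      M.presheaf.stalkSpecializes h (stalkMapₗ Ψ y t) =
        stalkMapₗ Ψ ξ (L.presheaf.stalkSpecializes h t) := fun h t =>
    (Additive.stalkMap_specializes Ψ h t).symm
  refine ⟨⟨e, fun y hy => ?_, fun y hy => ?_⟩, fun x h t ht => ?_⟩
  · haveI := Witness.stalk_trivial_of_not_specializes hy
    exact (E y).injective.subsingleton
  · rw [injective_iff_map_eq_zero]
    intro v hv
    obtain ⟨t, ht, -⟩ := C1Indep.exists_free_gen hL y
    obtain ⟨r, rfl⟩ := hgen y t ht v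
    rw [C1.stalkSpecializes_smul, hspec] at hv
    have hr : ¬ IsUnit (X.presheaf.stalkSpecializes hy r) := fun hu =>
      hgen0 _ (C1Indep.span_stalkSpecializes hL hy ht) (hu.smul_eq_zero.1 hv)
    have hr0 : r • oneAt ξ y = 0 := injective_specializes hy (by
      rw [C1.stalkSpecializes_smul, map_zero, smul_eq_zero_of_mem ξ ((mem_maximalIdeal _).2 hr)])
    refine (E y).injective ?_
    obtain ⟨q, hq⟩ := exists_smul_oneAt ξ y (E y (stalkMapₗ Ψ y t))
    rw [map_smul, map_zero, ← hq, smul_comm, hr0, smul_zero]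
  · obtain ⟨u, hu1, hu2⟩ := key _ (C1Indep.span_stalkSpecializes hL h ht)
    refine ⟨stalkMapₗ Ψ x t, u, u, hgen x t ht, rfl, hu2, ?_⟩
    show e _ = _
    rw [hspec, ← he, hu1, map_smul, smul_smul, Units.inv_mul, one_smul]

/-- The divisor of `s` is a difference of two cokernels. -/
theorem exists_witness [IsLocallyNoetherian X] {δ : X → ℤ} (hδ : Cyc.IsDimFun X δ) {k : ℤ} {ξ : X}
    (hξ : δ ξ = k + 1) {L : X.Modules} (hL : PicF.IsInvertible L) (s : Cyc.secFibre L ξ) (hs : s ≠ 0) :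
    ∃ (J : X.Modules) (u : J ⟶ Cyc.closureStructureSheaf ξ)
      (v : J ⟶ CohB1.tensorMod (Cyc.closureStructureSheaf ξ) L),
      Mono u ∧ Mono v ∧ Coh.IsCoh J ∧ Cyc.CohLe δ k (cokernel u) ∧ Cyc.CohLe δ k (cokernel v) ∧
      ∀ x, Cyc.secDivFun δ L ξ s x =
        Cyc.sheafFun δ k (cokernel v) x - Cyc.sheafFun δ k (cokernel u) x := by
  obtain ⟨T, hT⟩ := exists_line hL s hs
  have hM : Coh.IsCoh (CohB1.tensorMod (Cyc.closureStructureSheaf ξ) L) :=
    CurveBundle.Twist.isCoh hL (Devissage.Closure.isCoh_closureStructureSheaf ξ)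
  refine ⟨_, Gen.incl T, Gen.quot T, inferInstance, Gen.mono_quot T, Gen.isCoh_J T hM,
    Gen.cohLe_incl T hδ hξ hM, Gen.cohLe_quot T hδ hξ hM, fun x => ?_⟩
  by_cases hx : δ x = k
  swap
  · rw [Cyc.sheafFun, Cyc.sheafFun, if_neg hx, if_neg hx, sub_zero,
      Cyc.secDivFun, dif_neg fun h => hx (by omega)]
  by_cases h : ξ ⤳ x
  swap
  · rw [Cyc.secDivFun, dif_neg fun hc => h hc.1]
    have hz : ∀ {A B : X.Modules} (f : A ⟶ B), Subsingleton (B.presheaf.stalk x) →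
        Cyc.sheafFun δ k (cokernel f) x = 0 := fun {A B} f hB => by
      haveI := hB
      haveI : Subsingleton ((cokernel f).presheaf.stalk x) :=
        ((epi_iff_stalkMapₗ_surjective (cokernel.π f)).1 inferInstance x).subsingleton
      rw [Cyc.sheafFun, if_pos hx, Module.length_eq_zero]
      rfl
    rw [hz _ (T.supp x h), hz _ (Witness.stalk_trivial_of_not_specializes h), sub_zero]
  obtain ⟨t, ht, -⟩ := C1Indep.exists_free_gen hL x
  obtain ⟨g, φ, u, hg, rfl, hsφ, hgc⟩ := hT x h t ht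
  have hd : δ ξ ≤ δ x + 1 := by omega
  have h1 := Gen.sheafFun_sub_eq T hδ hξ hM hx h (u⁻¹).isUnit g hg hgc
  rw [Cyc.secDivFun, dif_pos ⟨h, by omega⟩, C1Indep.secOrdAt_eq hδ hL x ξ h hd s hs t ht _ hsφ]
  have hne : ∀ w : (X.presheaf.stalk ξ)ˣ, X.residue ξ (w : X.presheaf.stalk ξ) ≠ 0 := fun w =>
    (w.isUnit.map (X.residue ξ).hom).ne_zero
  have h2 := Ord.ordAt_mul hδ x ξ h hd _ _ (hne u) (hne u⁻¹)
  rw [← map_mul, Units.mul_inv, map_one] at h2
  have h3 := Ord.ordAt_mul hδ x ξ h hd (1 : X.residueField ξ) 1 one_ne_zero one_ne_zero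
  rw [mul_one] at h3
  omega

end Groth.Agent.Lib.Cyc.C1K.Twist
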