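import Groth.Agent.Lib.Cyc.C1K.Family
import Groth.Agent.Lib.Cyc.C1K.Twist
import Groth.Agent.Lib.Cyc.FP.Rat

/-!
# `[F ⊗ L] - [F]` is `c₁(L) ∩ [F]_{k+1}` in `K₀(Coh_{≤k+1}/Coh_{≤k-1})`
-/

set_option autoImplicit false
set_option linter.style.haveILetI false
universe u

open CategoryTheory CategoryTheory.Limits AlgebraicGeometry IsLocalRing

namespace Groth.Agent.Lib.Cyc.C1K.Main

open Groth.Agent.Lib Groth.Agent.Lib.Cyc Groth.Agent.Lib.KRes Groth.Agent.Lib.Modules.StalkModule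
  Groth.Agent.Lib.TensorMod.Basic

variable {X : Scheme.{u}} {δ : X → ℤ} {k : ℤ}

/-- `K₀(Coh_{≤k}/Coh_{≤k-1}) → K₀(Coh_{≤k+1}/Coh_{≤k-1})`. -/
noncomputable def inc (δ : X → ℤ) (k : ℤ) :
    Cyc.K0CohQuot δ k (k - 1) →+ Cyc.K0CohQuot δ (k + 1) (k - 1) :=
  QuotientAddGroup.lift _ (KSub.lift (fun F => Cyc.toK0CohQuot δ (k + 1) (k - 1) F)
    fun _ hS h₁ h₂ h₃ => K0.Cycles.mk_rel δ (k + 1) (k - 1) hS
      (Retr.K0Tools.cohLe_mono (by omega) h₁) (Retr.K0Tools.cohLe_mono (by omega) h₂)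
      (Retr.K0Tools.cohLe_mono (by omega) h₃)) <| by
    refine (AddSubgroup.closure_le _).2 ?_
    rintro _ ⟨F, hF, rfl⟩
    rw [SetLike.mem_coe, AddMonoidHom.mem_ker, KSub.lift_cl _ _ (Retr.K0Tools.cohLe_mono (by omega) hF)]
    exact K0.Cycles.mk_eq_zero δ (k + 1) (k - 1) hF

theorem inc_cl {F : X.Modules} (hF : Cyc.CohLe δ k F) :
    inc δ k (Cyc.toK0CohQuot δ k (k - 1) F) = Cyc.toK0CohQuot δ (k + 1) (k - 1) F := by
  rw [Cyc.toK0CohQuot, inc, QuotientAddGroup.lift_mk, KSub.lift_cl _ _ hF]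

variable [IsLocallyNoetherian X]

/-- Classes of modules in dimension `≤ k` are determined by their cycles. -/
theorem cl_sub_eq (hδ : Cyc.IsDimFun X δ) {A B P N : X.Modules} (hA : Cyc.CohLe δ k A)
    (hB : Cyc.CohLe δ k B) (hP : Cyc.CohLe δ k P) (hN : Cyc.CohLe δ k N)
    (h : ∀ x, Cyc.sheafFun δ k A x - Cyc.sheafFun δ k B x =
      Cyc.sheafFun δ k P x - Cyc.sheafFun δ k N x) :
    Cyc.toK0CohQuot δ (k + 1) (k - 1) A - Cyc.toK0CohQuot δ (k + 1) (k - 1) B =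
      Cyc.toK0CohQuot δ (k + 1) (k - 1) P - Cyc.toK0CohQuot δ (k + 1) (k - 1) N := by
  obtain ⟨ψ, hψ, hinj, -⟩ := K0.Cycles.main k hδ
  have := congrArg (inc δ k) (hinj (a₁ := Cyc.toK0CohQuot δ k (k - 1) A - Cyc.toK0CohQuot δ k (k - 1) B)
    (a₂ := Cyc.toK0CohQuot δ k (k - 1) P - Cyc.toK0CohQuot δ k (k - 1) N) (by
      rw [map_sub, map_sub, hψ A hA, hψ B hB, hψ P hP, hψ N hN]
      exact funext h))
  rwa [map_sub, map_sub, inc_cl hA, inc_cl hB, inc_cl hP, inc_cl hN] at this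

theorem cl_eq_of_sheafFun (hδ : Cyc.IsDimFun X δ) {A B : X.Modules} (hA : Cyc.CohLe δ k A)
    (hB : Cyc.CohLe δ k B) (h : Cyc.sheafFun δ k A = Cyc.sheafFun δ k B) :
    Cyc.toK0CohQuot δ (k + 1) (k - 1) A = Cyc.toK0CohQuot δ (k + 1) (k - 1) B := by
  obtain ⟨ψ, hψ, hinj, -⟩ := K0.Cycles.main k hδ
  rw [← inc_cl hA, ← inc_cl hB]
  exact congrArg _ (hinj (by rw [hψ A hA, hψ B hB, h]))

variable {L : X.Modules} (hL : PicF.IsInvertible L)

include hL in
theorem cohLe_twist {a : ℤ} {F : X.Modules} (hF : Cyc.CohLe δ a F) :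
    Cyc.CohLe δ a (CohB1.tensorMod F L) :=
  ⟨CurveBundle.Twist.isCoh hL hF.1, fun x hx => hF.2 x <| not_subsingleton_iff_nontrivial.1 <| by
    have h : x ∈ CohB1.support (CohB1.tensorMod F L) := not_subsingleton_iff_nontrivial.2 hx
    rw [CurveBundle.Twist.support_twist hL F] at h
    exact h⟩

omit [IsLocallyNoetherian X] in
include hL in
theorem length_twist (F : X.Modules) (x : X) :
    Module.length (X.presheaf.stalk x) ((CohB1.tensorMod F L).presheaf.stalk x) =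
      Module.length (X.presheaf.stalk x) (F.presheaf.stalk x) :=
  ((stalkLinearEquiv (TensorMod.Basic.comm F L) x).trans
    (Snapper.Twist.exists_stalkEquiv_twist hL F x).some).length_eq

/-- `F ↦ [F ⊗ L] - [F]`. -/
noncomputable def twistD (δ : X → ℤ) (k : ℤ) (hδ : Cyc.IsDimFun X δ) (hL : PicF.IsInvertible L) :
    Cyc.K0CohQuot δ (k + 1) k →+ Cyc.K0CohQuot δ (k + 1) (k - 1) :=
  QuotientAddGroup.lift _ (KSub.lift
    (fun F => Cyc.toK0CohQuot δ (k + 1) (k - 1) (CohB1.tensorMod F L) -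
      Cyc.toK0CohQuot δ (k + 1) (k - 1) F)
    fun S hS h₁ h₂ h₃ => by
      have e1 := K0.Cycles.mk_rel δ (k + 1) (k - 1) hS h₁ h₂ h₃
      have e2 := K0.Cycles.mk_rel δ (k + 1) (k - 1) (CurveBundle.Twist.shortExact hL hS)
        (cohLe_twist hL h₁) (cohLe_twist hL h₂) (cohLe_twist hL h₃)
      dsimp only at e2 ⊢
      rw [e1, e2]
      abel) <| by
    refine (AddSubgroup.closure_le _).2 ?_
    rintro _ ⟨F, hF, rfl⟩
    rw [SetLike.mem_coe, AddMonoidHom.mem_ker, KSub.lift_cl _ _ (Retr.K0Tools.cohLe_mono (by omega) hF),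
      sub_eq_zero]
    refine cl_eq_of_sheafFun hδ (cohLe_twist hL hF) hF (funext fun x => ?_)
    simp only [Cyc.sheafFun, length_twist hL F x]

theorem twistD_cl (hδ : Cyc.IsDimFun X δ) {F : X.Modules} (hF : Cyc.CohLe δ (k + 1) F) :
    twistD δ k hδ hL (Cyc.toK0CohQuot δ (k + 1) k F) =
      Cyc.toK0CohQuot δ (k + 1) (k - 1) (CohB1.tensorMod F L) -
        Cyc.toK0CohQuot δ (k + 1) (k - 1) F := by
  rw [Cyc.toK0CohQuot, twistD, QuotientAddGroup.lift_mk, KSub.lift_cl _ _ hF]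

omit [IsLocallyNoetherian X] in
theorem finsum_idx (a g : X → ℤ) (ha : ∀ ζ, 0 ≤ a ζ) (hfin : (Function.support fun ζ => a ζ * g ζ).Finite) :
    ∑ᶠ n : K0.Sum.Idx a, g n.1.1 = ∑ᶠ ζ, a ζ * g ζ := by
  classical
  let S : Finset {ζ : X // 0 < a ζ} := (hfin.preimage Subtype.val_injective.injOn).toFinset
  rw [finsum_eq_sum_of_support_subset (s := S.sigma fun _ => Finset.univ) _ ?_, Finset.sum_sigma,
    finsum_eq_sum_of_support_subset (s := S.map ⟨Subtype.val, Subtype.val_injective⟩) _ ?_,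
    Finset.sum_map]
  · refine Finset.sum_congr rfl fun ζ _ => ?_
    show (∑ _j : Fin (a ζ.1).toNat, g ζ.1) = a ζ.1 * g ζ.1
    rw [Finset.sum_const, Finset.card_univ, Fintype.card_fin, nsmul_eq_mul, Int.toNat_of_nonneg (ha _)]
  · intro ζ hζ
    have h0 : 0 < a ζ := lt_of_le_of_ne (ha ζ) fun h => hζ (by simp [← h])
    simp only [Finset.coe_map, Set.mem_image, Function.Embedding.coeFn_mk, Finset.mem_coe]
    exact ⟨⟨ζ, h0⟩, (Set.Finite.mem_toFinset _).2 hζ, rfl⟩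
  · intro n hn
    simp only [Finset.mem_coe, Finset.mem_sigma, Finset.mem_univ, and_true]
    exact (Set.Finite.mem_toFinset _).2 (mul_ne_zero (ne_of_gt n.1.2) hn)

include hL in
/-- The main computation. -/
theorem cl_twist_sub (hδ : Cyc.IsDimFun X δ) {F : X.Modules} (hF : Cyc.CohLe δ (k + 1) F)
    (s : (ξ : X) → Cyc.secFibre L ξ) (hs : ∀ ξ, Cyc.sheafFun δ (k + 1) F ξ ≠ 0 → s ξ ≠ 0) :
    ∃ A B : X.Modules, Cyc.CohLe δ k A ∧ Cyc.CohLe δ k B ∧
      Cyc.toK0CohQuot δ (k + 1) (k - 1) (CohB1.tensorMod F L) -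
          Cyc.toK0CohQuot δ (k + 1) (k - 1) F =
        Cyc.toK0CohQuot δ (k + 1) (k - 1) A - Cyc.toK0CohQuot δ (k + 1) (k - 1) B ∧
      ∀ x, Cyc.sheafFun δ k A x - Cyc.sheafFun δ k B x =
        Cyc.c1CapFun δ L (Cyc.sheafFun δ (k + 1) F) s x := by
  classical
  set a := Cyc.sheafFun δ (k + 1) F with ha_def
  have ha0 : ∀ ζ, 0 ≤ a ζ := fun ζ => by
    simp only [ha_def, Cyc.sheafFun]
    split_ifs <;> positivity
  have hak : ∀ ζ, a ζ ≠ 0 → δ ζ = k + 1 := fun ζ h => by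
    by_contra hne
    exact h (if_neg hne)
  have hafin : ∀ x : X, ∃ U : X.Opens, x ∈ U ∧ ((U : Set X) ∩ a.support).Finite := fun x => by
    obtain ⟨U, hx, hfin⟩ := K0.Cycles.finite_support (k + 1) hδ hF x
    refine ⟨U, hx, hfin.subset fun y hy => ⟨hy.1, hak y hy.2, ?_⟩⟩
    by_contra h
    haveI := not_nontrivial_iff_subsingleton.1 h
    refine hy.2 ?_
    simp only [ha_def, Cyc.sheafFun, Module.length_eq_zero]
    split_ifs <;> rfl
  let ξ : K0.Sum.Idx a → X := fun n => n.1.1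
  have hξ : ∀ n, δ (ξ n) = k + 1 := fun n => hak _ (ne_of_gt n.1.2)
  have hlf : Family.LF ξ := fun x => by
    obtain ⟨U, hx, hfin⟩ := hafin x
    refine ⟨U, U.2, hx, ?_⟩
    have hS : {ζ : {ζ : X // 0 < a ζ} | ζ.1 ∈ U}.Finite :=
      (hfin.preimage Subtype.val_injective.injOn).subset fun ζ hζ => ⟨hζ, ne_of_gt ζ.2⟩
    refine ((hS.toFinset.sigma fun _ => Finset.univ).finite_toSet).subset ?_
    rintro n ⟨y, hy, hyU⟩
    exact Finset.mem_sigma.2 ⟨hS.mem_toFinset.2 ((specializes_iff_mem_closure.2 hy).mem_open U.2 hyU),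
      Finset.mem_univ _⟩
  have hsn : ∀ n, s (ξ n) ≠ 0 := fun n => hs _ (ne_of_gt n.1.2)
  choose J u v mu mv hJ hcu hcv hdiv using fun n => Twist.exists_witness hδ (hξ n) hL (s (ξ n)) (hsn n)
  let O : K0.Sum.Idx a → X.Modules := fun n => Cyc.closureStructureSheaf (ξ n)
  let M : K0.Sum.Idx a → X.Modules := fun n => CohB1.tensorMod (Cyc.closureStructureSheaf (ξ n)) L
  haveI : ∀ n, Mono (u n) := mu
  haveI : ∀ n, Mono (v n) := mv
  have hOn : Family.OnCl ξ O := fun n y hy => Retr.Witness.stalk_trivial_of_not_specializes hy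
  have hMn : Family.OnCl ξ M := fun n y hy => by
    haveI := hOn n y hy
    rw [← Module.length_eq_zero_iff (R := X.presheaf.stalk y), length_twist hL, Module.length_eq_zero]
  obtain ⟨hmu, hCu, hfu⟩ := Family.sigma_map_spec hlf hδ u hOn hcu
  obtain ⟨hmv, hCv, hfv⟩ := Family.sigma_map_spec hlf hδ v hMn hcv
  haveI := hmu
  haveI := hmv
  have hJn : Family.OnCl ξ J := fun n y hy =>
    haveI := hOn n y hy
    ((mono_iff_stalkMapₗ_injective (u n)).1 inferInstance y).subsingleton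
  have hJc : Coh.IsCoh (∐ J) := Family.isCoh_sigma hlf hJn hJ
  have hOc : Cyc.CohLe δ (k + 1) (∐ O) := Family.cohLe_sigma hlf hOn fun n =>
    ⟨Devissage.Closure.isCoh_closureStructureSheaf _, fun y hy => by
      by_cases hsp : ξ n ⤳ y
      · exact (DimFun.le_of_specializes hδ hsp).trans (hξ n).le
      · exact absurd (hOn n y hsp) (not_subsingleton_iff_nontrivial.2 hy)⟩
  haveI := CurveBundle.Twist.isEquivalence hL
  have hP : Cyc.toK0CohQuot δ (k + 1) k F = Cyc.toK0CohQuot δ (k + 1) k (∐ O) := by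
    have h := K0.Cycles.cl_eq_cycleSheaf (k + 1) hδ hF
    rw [add_sub_cancel_right] at h
    exact h
  let e : CohB1.tensorMod (∐ O) L ≅ ∐ M := PreservesCoproduct.iso (tensorBy L) O
  have hMc : Coh.IsCoh (∐ M) :=
    CohBasics.Closure.isCoh_of_iso e (cohLe_twist hL hOc).1
  refine ⟨cokernel (Limits.Sigma.map v), cokernel (Limits.Sigma.map u), hCv, hCu, ?_, fun x => ?_⟩
  · rw [← twistD_cl hL hδ hF, hP, twistD_cl hL hδ hOc,
      Retr.K0Tools.cl_iso e (cohLe_twist hL hOc) hMc,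
      Retr.K0Tools.cl_of_mono (Limits.Sigma.map v) hJc (Family.cohLe_sigma hlf hMn fun n => cohLe_twist hL
        ⟨Devissage.Closure.isCoh_closureStructureSheaf _, fun y hy => by
          by_cases hsp : ξ n ⤳ y
          · exact (DimFun.le_of_specializes hδ hsp).trans (hξ n).le
          · exact absurd (hOn n y hsp) (not_subsingleton_iff_nontrivial.2 hy)⟩),
      Retr.K0Tools.cl_of_mono (Limits.Sigma.map u) hJc hOc]
    abel
  · have hsuppF : ∀ (N : K0.Sum.Idx a → X.Modules) (g : ∀ n, J n ⟶ N n), Family.OnCl ξ N →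
        (Function.support fun n => Cyc.sheafFun δ k (cokernel (g n)) x).Finite := fun N g hN => by
      refine (Family.finite_nontrivial hlf hN x).subset fun n hn => ?_
      by_contra hc
      haveI := not_nontrivial_iff_subsingleton.1 hc
      haveI : Subsingleton ((cokernel (g n)).presheaf.stalk x) :=
        ((epi_iff_stalkMapₗ_surjective (cokernel.π (g n))).1 inferInstance x).subsingleton
      refine hn ?_
      simp only [Cyc.sheafFun, Module.length_eq_zero]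
      split_ifs <;> rfl
    rw [hfv, hfu, ← finsum_sub_distrib (hsuppF M v hMn) (hsuppF O u hOn)]
    refine Eq.trans (finsum_congr fun n => (hdiv n x).symm) ?_
    refine finsum_idx a (fun ζ => Cyc.secDivFun δ L ζ (s ζ) x) ha0 ?_
    refine C1Indep.finite_support_mul (FP.Rat.cycleOf (k + 1) hδ hF) _ x fun ζ hζ => ?_
    exact dif_neg fun hc => hζ hc.1

end Groth.Agent.Lib.Cyc.C1K.Main

namespace Groth.Agent.Lib.Cyc.C1K.Main

open Groth.Agent.Lib Groth.Agent.Lib.Cyc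

variable {X : Scheme.{u}} [IsLocallyNoetherian X] {δ : X → ℤ} {k : ℤ}

/-- The cycle sheaves of a cycle recover its coefficients. -/
theorem cycleSheaf_sub (hδ : Cyc.IsDimFun X δ) (γ : AlgebraicCycle X ℤ) (hγ : γ ∈ Cyc.Zk X δ k) :
    Cyc.CohLe δ k (Cyc.cycleSheafPos ⇑γ) ∧ Cyc.CohLe δ k (Cyc.cycleSheafNeg ⇑γ) ∧
      ∀ x, Cyc.sheafFun δ k (Cyc.cycleSheafPos ⇑γ) x - Cyc.sheafFun δ k (Cyc.cycleSheafNeg ⇑γ) x =
        γ x := by
  have hfin : ∀ x : X, ∃ U : X.Opens, x ∈ U ∧ ((U : Set X) ∩ (⇑γ).support).Finite := fun x => by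
    obtain ⟨t, ht, hf⟩ := γ.supportLocallyFiniteWithinDomain' x trivial
    obtain ⟨U, hUt, hU, hxU⟩ := mem_nhds_iff.1 ht
    exact ⟨⟨U, hU⟩, hxU, hf.subset (Set.inter_subset_inter_left _ hUt)⟩
  have hk : ∀ x, γ x ≠ 0 → δ x = k := fun x hx => by by_contra h; exact hx (hγ x h)
  obtain ⟨hP, hPl⟩ := K0.Sum.cycleSheaf_spec hδ k ⇑γ hk hfin
  obtain ⟨hN, hNl⟩ := K0.Sum.cycleSheaf_spec hδ k (-⇑γ) (fun x hx => hk x (by simpa using hx))
    (by simpa [Function.support_neg] using hfin)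
  refine ⟨hP, hN, fun y => ?_⟩
  change Cyc.sheafFun δ k (Cyc.cycleSheafPos ⇑γ) y - Cyc.sheafFun δ k (Cyc.cycleSheafPos (-⇑γ)) y = γ y
  simp only [Cyc.sheafFun]
  by_cases hy : δ y = k
  · rw [if_pos hy, if_pos hy, (hPl y hy).1, (hNl y hy).1, ENat.toNat_coe, ENat.toNat_coe,
      Pi.neg_apply, Int.toNat_sub_toNat_neg]
  · rw [if_neg hy, if_neg hy, sub_zero]
    exact (hγ y hy).symm

end Groth.Agent.Lib.Cyc.C1K.Main
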