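import Groth.Agent.Lib.Cyc.Retr.Family

/-!
# Locally finite families of injections supported on closures
-/

set_option autoImplicit false
set_option linter.style.haveILetI false
universe u

open CategoryTheory CategoryTheory.Limits AlgebraicGeometry IsLocalRing

namespace Groth.Agent.Lib.Cyc.C1K.Family

open Groth.Agent.Lib Groth.Agent.Lib.Cyc Groth.Agent.Lib.Modules.StalkModule

variable {X : Scheme.{u}}

/-- A locally finite family of closures. -/
def LF {ι : Type u} (ξ : ι → X) : Prop :=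
  ∀ x : X, ∃ U : Set X, IsOpen U ∧ x ∈ U ∧ {i | (closure {ξ i} ∩ U).Nonempty}.Finite

/-- `G i` lives on the closure of `ξ i`. -/
def OnCl {ι : Type u} (ξ : ι → X) (G : ι → X.Modules) : Prop :=
  ∀ i y, ¬ ξ i ⤳ y → Subsingleton ((G i).presheaf.stalk y)

variable {ι : Type u} {ξ : ι → X}

theorem finite_nontrivial (hlf : LF ξ) {G : ι → X.Modules} (hG : OnCl ξ G) (x : X) :
    {n | Nontrivial ((G n).presheaf.stalk x)}.Finite := by
  obtain ⟨U, -, hxU, hfin⟩ := hlf x
  refine hfin.subset fun n hn => ⟨x, specializes_iff_mem_closure.1 ?_, hxU⟩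
  by_contra hs
  exact not_subsingleton_iff_nontrivial.2 hn (hG n x hs)

variable [IsLocallyNoetherian X]

theorem isCoh_sigma (hlf : LF ξ) {G : ι → X.Modules} (hG : OnCl ξ G) (h : ∀ i, Coh.IsCoh (G i)) :
    Coh.IsCoh (∐ G) :=
  K0.Sum.sigma_isCoh _ (fun x => by
    obtain ⟨U, hU, hxU, hfin⟩ := hlf x
    refine ⟨⟨U, hU⟩, hxU, hfin.toFinset, fun n hn y hy => hG n y fun hs => hn ?_⟩
    exact (Set.Finite.mem_toFinset _).2 ⟨y, specializes_iff_mem_closure.1 hs, hy⟩) h

theorem cohLe_sigma (hlf : LF ξ) {G : ι → X.Modules} (hG : OnCl ξ G) {δ : X → ℤ} {a : ℤ}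
    (h : ∀ i, Cyc.CohLe δ a (G i)) : Cyc.CohLe δ a (∐ G) := by
  refine ⟨isCoh_sigma hlf hG fun i => (h i).1, fun y hy => ?_⟩
  by_contra hlt
  have hbot : (⊥ : Submodule (X.presheaf.stalk y) ((∐ G).presheaf.stalk y)) = ⊤ :=
    K0.Sum.span_stalk_sigma _ y _ fun n w => by
      haveI : Subsingleton ((G n).presheaf.stalk y) :=
        not_nontrivial_iff_subsingleton.1 fun h' => hlt ((h n).2 y h')
      rw [Subsingleton.elim w 0, map_zero]
      exact Submodule.zero_mem _
  haveI := hy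
  obtain ⟨w, hw⟩ := exists_ne (0 : (∐ G).presheaf.stalk y)
  exact hw ((Submodule.mem_bot _).1 (hbot ▸ trivial : w ∈ (⊥ : Submodule (X.presheaf.stalk y) _)))

/-- The coproduct of a family of injections. -/
theorem sigma_map_spec (hlf : LF ξ) {δ : X → ℤ} (hδ : Cyc.IsDimFun X δ) {k : ℤ}
    {J N : ι → X.Modules} (g : ∀ i, J i ⟶ N i) [∀ i, Mono (g i)] (hN : OnCl ξ N)
    (hc : ∀ i, Cyc.CohLe δ k (cokernel (g i))) :
    Mono (Limits.Sigma.map g) ∧ Cyc.CohLe δ k (cokernel (Limits.Sigma.map g)) ∧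
      ∀ x, Cyc.sheafFun δ k (cokernel (Limits.Sigma.map g)) x =
        ∑ᶠ i, Cyc.sheafFun δ k (cokernel (g i)) x := by
  have hm := Retr.Family.mono_sigma_map g
  have hC : OnCl ξ fun i => cokernel (g i) := fun i y hy =>
    haveI := hN i y hy
    ((epi_iff_stalkMapₗ_surjective (cokernel.π (g i))).1 inferInstance y).subsingleton
  let e : cokernel (Limits.Sigma.map g) ≅ ∐ fun i => cokernel (g i) :=
    (cokernelIsCokernel _).coconePointUniqueUpToIso (Retr.Family.shortExact_sigma_cokernel g).gIsCokernel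
  have hcoh := cohLe_sigma hlf hC hc
  refine ⟨hm, ⟨CohBasics.Closure.isCoh_of_iso e.symm hcoh.1, fun y hy => hcoh.2 y ?_⟩, fun x => ?_⟩
  · haveI := hy
    exact (stalkLinearEquiv e y).symm.toEquiv.nontrivial
  · have : Cyc.sheafFun δ k (cokernel (Limits.Sigma.map g)) x =
        Cyc.sheafFun δ k (∐ fun i => cokernel (g i)) x := by
      simp only [Cyc.sheafFun, (stalkLinearEquiv e x).length_eq]
    rw [this]
    exact Retr.Family.sheafFun_sigma _ (fun n y hy => K0.Cycles.length_ne_top k hδ (hc n) hy) x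
      (finite_nontrivial hlf hC x)

end Groth.Agent.Lib.Cyc.C1K.Family
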