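import Groth.Agent.Lib.Cyc.C1K.Index
import Groth.Agent.Lib.Cyc.C1Tensor

/-!
# `c₁` and rational equivalence
-/

set_option autoImplicit false
set_option linter.style.haveILetI false
universe u

open CategoryTheory CategoryTheory.Limits AlgebraicGeometry IsLocalRing

namespace Groth.Agent.Lib.Cyc.C1K.Chow

open Groth.Agent.Lib Groth.Agent.Lib.Cyc Groth.Agent.Lib.Modules.StalkModule

variable {X : Scheme.{u}} [IsLocallyNoetherian X] {δ : X → ℤ} {k : ℤ}

theorem sheafFun_biprod (hδ : Cyc.IsDimFun X δ) {A B : X.Modules} (hA : Cyc.CohLe δ k A)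
    (hB : Cyc.CohLe δ k B) (x : X) :
    Cyc.sheafFun δ k (A ⊞ B) x = Cyc.sheafFun δ k A x + Cyc.sheafFun δ k B x :=
  congrFun (K0.Cycles.sheafFun_shortExact k hδ
    (ShortComplex.Splitting.ofHasBinaryBiproduct A B).shortExact (K0.Cycles.cohLe_biprod hA hB)) x

/-- Equal `K₀` classes of differences give rationally equivalent cycles. -/
theorem ratEquivZero_of_cl (hδ : Cyc.IsDimFun X δ) {A B A' B' : X.Modules} (hA : Cyc.CohLe δ k A)
    (hB : Cyc.CohLe δ k B) (hA' : Cyc.CohLe δ k A') (hB' : Cyc.CohLe δ k B')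
    (h : Cyc.toK0CohQuot δ (k + 1) (k - 1) A - Cyc.toK0CohQuot δ (k + 1) (k - 1) B =
      Cyc.toK0CohQuot δ (k + 1) (k - 1) A' - Cyc.toK0CohQuot δ (k + 1) (k - 1) B')
    (γ : AlgebraicCycle X ℤ)
    (hγ : ∀ x, γ x = (Cyc.sheafFun δ k A x - Cyc.sheafFun δ k B x) -
      (Cyc.sheafFun δ k A' x - Cyc.sheafFun δ k B' x)) : Cyc.RatEquivZero δ k γ := by
  have h1 := K0.Cycles.cohLe_biprod hA hB'
  have h2 := K0.Cycles.cohLe_biprod hA' hB
  refine FP.Rat.ratEquivZero_sub hδ h1 h2 ?_ γ fun x => ?_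
  · have e := fun {P Q : X.Modules} (hP : Cyc.CohLe δ k P) (hQ : Cyc.CohLe δ k Q) =>
      K0.Cycles.mk_rel δ (k + 1) (k - 1)
        (ShortComplex.Splitting.ofHasBinaryBiproduct P Q).shortExact
        (Retr.K0Tools.cohLe_mono (by omega) hP)
        (Retr.K0Tools.cohLe_mono (by omega) (K0.Cycles.cohLe_biprod hP hQ))
        (Retr.K0Tools.cohLe_mono (by omega) hQ)
    have e1 := e hA hB'
    have e2 := e hA' hB
    dsimp only at e1 e2
    rw [e1, e2, ← sub_eq_zero, ← sub_eq_zero.2 h]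
    abel
  · rw [hγ, sheafFun_biprod hδ hA hB', sheafFun_biprod hδ hA' hB]
    ring

theorem c1Cap_sub (hδ : Cyc.IsDimFun X δ) {a : ℤ} {L : X.Modules} {P Q : X.Modules}
    (hP : Cyc.CohLe δ a P) (hQ : Cyc.CohLe δ a Q) {α : X → ℤ}
    (hα : ∀ x, α x = Cyc.sheafFun δ a P x - Cyc.sheafFun δ a Q x)
    (s : (ξ : X) → Cyc.secFibre L ξ) (x : X) :
    Cyc.c1CapFun δ L α s x =
      Cyc.c1CapFun δ L (Cyc.sheafFun δ a P) s x - Cyc.c1CapFun δ L (Cyc.sheafFun δ a Q) s x := by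
  have hF : ∀ ζ, ¬ ζ ⤳ x → Cyc.secDivFun δ L ζ (s ζ) x = 0 := fun ζ hζ => dif_neg fun hc => hζ hc.1
  have h1 : (Function.support fun ξ => Cyc.sheafFun δ a P ξ * Cyc.secDivFun δ L ξ (s ξ) x).Finite :=
    C1Indep.finite_support_mul (FP.Rat.cycleOf a hδ hP) _ x hF
  have h2 : (Function.support fun ξ => Cyc.sheafFun δ a Q ξ * Cyc.secDivFun δ L ξ (s ξ) x).Finite :=
    C1Indep.finite_support_mul (FP.Rat.cycleOf a hδ hQ) _ x hF
  rw [Cyc.c1CapFun, Cyc.c1CapFun, Cyc.c1CapFun]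
  rw [← finsum_sub_distrib h1 h2]
  exact finsum_congr fun ξ => by rw [hα, sub_mul]

/-- Equal twist classes give rationally equivalent caps. -/
theorem ratEquiv_c1_of_tw (hδ : Cyc.IsDimFun X δ) {L N : X.Modules} (hL : PicF.IsInvertible L)
    (hN : PicF.IsInvertible N) {P Q P' Q' : X.Modules} (hP : Cyc.CohLe δ (k + 1) P)
    (hQ : Cyc.CohLe δ (k + 1) Q) (hP' : Cyc.CohLe δ (k + 1) P') (hQ' : Cyc.CohLe δ (k + 1) Q')
    (htw : Index.tw δ (k + 1) (k - 1) L P - Index.tw δ (k + 1) (k - 1) L Q =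
      Index.tw δ (k + 1) (k - 1) N P' - Index.tw δ (k + 1) (k - 1) N Q')
    {α β : X → ℤ} (hα : ∀ x, α x = Cyc.sheafFun δ (k + 1) P x - Cyc.sheafFun δ (k + 1) Q x)
    (hβ : ∀ x, β x = Cyc.sheafFun δ (k + 1) P' x - Cyc.sheafFun δ (k + 1) Q' x)
    (s : (ξ : X) → Cyc.secFibre L ξ) (hs : ∀ ξ, δ ξ = k + 1 → s ξ ≠ 0)
    (t : (ξ : X) → Cyc.secFibre N ξ) (ht : ∀ ξ, δ ξ = k + 1 → t ξ ≠ 0)
    (γ γ' : AlgebraicCycle X ℤ) (hγ : ⇑γ = Cyc.c1CapFun δ L α s)
    (hγ' : ⇑γ' = Cyc.c1CapFun δ N β t) : Cyc.RatEquiv δ k γ γ' := by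
  have hd : ∀ {F : X.Modules} ξ, Cyc.sheafFun δ (k + 1) F ξ ≠ 0 → δ ξ = k + 1 := fun {F} ξ h => by
    by_contra hne
    exact h (if_neg hne)
  obtain ⟨A₁, B₁, hA₁, hB₁, e₁, f₁⟩ := Main.cl_twist_sub hL hδ hP s fun ξ h => hs ξ (hd ξ h)
  obtain ⟨A₂, B₂, hA₂, hB₂, e₂, f₂⟩ := Main.cl_twist_sub hL hδ hQ s fun ξ h => hs ξ (hd ξ h)
  obtain ⟨A₃, B₃, hA₃, hB₃, e₃, f₃⟩ := Main.cl_twist_sub hN hδ hP' t fun ξ h => ht ξ (hd ξ h)
  obtain ⟨A₄, B₄, hA₄, hB₄, e₄, f₄⟩ := Main.cl_twist_sub hN hδ hQ' t fun ξ h => ht ξ (hd ξ h)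
  simp only [Index.tw, e₁, e₂, e₃, e₄] at htw
  have e := fun {P Q : X.Modules} (hP : Cyc.CohLe δ k P) (hQ : Cyc.CohLe δ k Q) =>
    K0.Cycles.mk_rel δ (k + 1) (k - 1)
      (ShortComplex.Splitting.ofHasBinaryBiproduct P Q).shortExact
      (Retr.K0Tools.cohLe_mono (by omega) hP)
      (Retr.K0Tools.cohLe_mono (by omega) (K0.Cycles.cohLe_biprod hP hQ))
      (Retr.K0Tools.cohLe_mono (by omega) hQ)
  refine ratEquivZero_of_cl hδ (K0.Cycles.cohLe_biprod hA₁ hB₂) (K0.Cycles.cohLe_biprod hB₁ hA₂)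
    (K0.Cycles.cohLe_biprod hA₃ hB₄) (K0.Cycles.cohLe_biprod hB₃ hA₄) ?_ _ fun x => ?_
  · have g1 := e hA₁ hB₂
    have g2 := e hB₁ hA₂
    have g3 := e hA₃ hB₄
    have g4 := e hB₃ hA₄
    dsimp only at g1 g2 g3 g4
    rw [g1, g2, g3, g4]
    linear_combination (norm := abel) htw
  · rw [Function.locallyFinsuppWithin.coe_sub, Pi.sub_apply, hγ, hγ', c1Cap_sub hδ hP hQ hα,
      c1Cap_sub hδ hP' hQ' hβ, ← f₁, ← f₂, ← f₃, ← f₄, sheafFun_biprod hδ hA₁ hB₂,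
      sheafFun_biprod hδ hB₁ hA₂, sheafFun_biprod hδ hA₃ hB₄, sheafFun_biprod hδ hB₃ hA₄]
    ring

section Families

variable {ι : Type u} {ξ : ι → X} (hδ : Cyc.IsDimFun X δ) (hlf : Family.LF ξ)
  (hξ : ∀ i, δ (ξ i) = k + 1)

include hδ hlf hξ in
theorem parts_spec {M : ι → X.Modules} (T : Index.Fam ξ M) (hM : ∀ i, Coh.IsCoh (M i)) :
    Cyc.CohLe δ k (Index.posPart T) ∧ Cyc.CohLe δ k (Index.negPart T) ∧
      ∀ (g : ι → X → ℤ),
        (∀ i x, g i x = Cyc.sheafFun δ k (cokernel (Gen.quot (T i))) x -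
          Cyc.sheafFun δ k (cokernel (Gen.incl (T i))) x) →
        ∀ x, Cyc.sheafFun δ k (Index.posPart T) x - Cyc.sheafFun δ k (Index.negPart T) x =
          ∑ᶠ i, g i x := by
  haveI : ∀ i, Mono (Gen.quot (T i)) := fun i => Gen.mono_quot (T i)
  have hO : Family.OnCl ξ fun i => Cyc.closureStructureSheaf (ξ i) := fun i y hy =>
    Retr.Witness.stalk_trivial_of_not_specializes hy
  have hMs : Family.OnCl ξ M := fun i => (T i).supp
  obtain ⟨-, hP, fP⟩ := Family.sigma_map_spec hlf hδ (fun i => Gen.quot (T i)) hMs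
    fun i => Gen.cohLe_quot (T i) hδ (hξ i) (hM i)
  obtain ⟨-, hN, fN⟩ := Family.sigma_map_spec hlf hδ (fun i => Gen.incl (T i)) hO
    fun i => Gen.cohLe_incl (T i) hδ (hξ i) (hM i)
  refine ⟨hP, hN, fun g hg x => ?_⟩
  have hs : ∀ {A B : ι → X.Modules} (u : ∀ i, A i ⟶ B i), Family.OnCl ξ B →
      (Function.support fun i => Cyc.sheafFun δ k (cokernel (u i)) x).Finite := fun {A B} u hB => by
    refine (Family.finite_nontrivial hlf hB x).subset fun n hn => ?_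
    by_contra hc
    haveI := not_nontrivial_iff_subsingleton.1 hc
    haveI : Subsingleton ((cokernel (u n)).presheaf.stalk x) :=
      ((epi_iff_stalkMapₗ_surjective (cokernel.π (u n))).1 inferInstance x).subsingleton
    refine hn ?_
    simp only [Cyc.sheafFun, Module.length_eq_zero]
    split_ifs <;> rfl
  rw [Index.posPart, Index.negPart, fP, fN, ← finsum_sub_distrib (hs _ hMs) (hs _ hO)]
  exact finsum_congr fun i => (hg i x).symm

include hδ in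
theorem div_scale_base {ζ : X} (hζ : δ ζ = k + 1) (c : (X.presheaf.stalk ζ)ˣ) (x : X) :
    Cyc.divFun δ ζ (X.residue ζ (c : X.presheaf.stalk ζ)) x =
      Cyc.sheafFun δ k (cokernel (Gen.incl (Lines.scale (Lines.base ζ) c))) x -
        Cyc.sheafFun δ k (cokernel (Gen.quot (Lines.scale (Lines.base ζ) c))) x := by
  have cO := Devissage.Closure.isCoh_closureStructureSheaf (X := X) ζ
  by_cases hx : δ x = k
  swap
  · rw [Cyc.sheafFun, Cyc.sheafFun, if_neg hx, if_neg hx, sub_zero,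
      Cyc.divFun, dif_neg fun h => hx (by omega)]
  by_cases hsp : ζ ⤳ x
  · rw [Gen.sheafFun_sub_eq _ hδ hζ cO hx hsp c.isUnit (Retr.Witness.oneAt ζ x)
      (Retr.Witness.exists_smul_oneAt ζ x) (by
        rw [Retr.Witness.specializes_oneAt]; rfl), Cyc.divFun, dif_pos ⟨hsp, by omega⟩]
  · haveI := Retr.Witness.stalk_trivial_of_not_specializes hsp
    have hz : ∀ {A : X.Modules} (f : A ⟶ Cyc.closureStructureSheaf ζ),
        Cyc.sheafFun δ k (cokernel f) x = 0 := fun {A} f => by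
      haveI : Subsingleton ((cokernel f).presheaf.stalk x) :=
        ((epi_iff_stalkMapₗ_surjective (cokernel.π f)).1 inferInstance x).subsingleton
      rw [Cyc.sheafFun, if_pos hx, Module.length_eq_zero]
      rfl
    rw [hz, hz, sub_zero, Ord.divFun_eq_zero_of_not_specializes δ _ _ _ hsp]

include hδ in
theorem div_twist_base {ζ : X} (hζ : δ ζ = k + 1) {L : X.Modules} (hL : PicF.IsInvertible L)
    (v : L.presheaf.stalk ζ) (hv : Lines.IsBasis L v) (s : Cyc.secFibre L ζ) (hs : s ≠ 0)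
    (hvs : Submodule.Quotient.mk v = s) (x : X) :
    Cyc.secDivFun δ L ζ s x =
      Cyc.sheafFun δ k (cokernel (Gen.quot (Lines.twist (Lines.base ζ) hL v hv))) x -
        Cyc.sheafFun δ k (cokernel (Gen.incl (Lines.twist (Lines.base ζ) hL v hv))) x := by
  set T := Lines.twist (Lines.base ζ) hL v hv
  have cM := CurveBundle.Twist.isCoh hL (Devissage.Closure.isCoh_closureStructureSheaf ζ)
  by_cases hx : δ x = k
  swap
  · rw [Cyc.sheafFun, Cyc.sheafFun, if_neg hx, if_neg hx, sub_zero,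
      Cyc.secDivFun, dif_neg fun h => hx (by omega)]
  by_cases h : ζ ⤳ x
  swap
  · rw [Cyc.secDivFun, dif_neg fun hc => h hc.1]
    have hz : ∀ {A B : X.Modules} (f : A ⟶ B), Subsingleton (B.presheaf.stalk x) →
        Cyc.sheafFun δ k (cokernel f) x = 0 := fun {A B} f hB => by
      haveI := hB
      haveI : Subsingleton ((cokernel f).presheaf.stalk x) :=
        ((epi_iff_stalkMapₗ_surjective (cokernel.π f)).1 inferInstance x).subsingleton
      rw [Cyc.sheafFun, if_pos hx, Module.length_eq_zero]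
      rfl
    rw [hz _ (T.supp x h), hz _ (Retr.Witness.stalk_trivial_of_not_specializes h), sub_zero]
  obtain ⟨t, ht, -⟩ := C1Indep.exists_free_gen hL x
  obtain ⟨c, hc⟩ := Lines.span_basis hL h ht hv
  let M := CohB1.tensorMod (Cyc.closureStructureSheaf ζ) L
  let g : M.presheaf.stalk x := (TStalk.tS x _ L).symm (Retr.Witness.oneAt ζ x ⊗ₜ t)
  have hg : ∀ w : M.presheaf.stalk x, ∃ r : X.presheaf.stalk x, r • g = w := fun w => by
    obtain ⟨z, rfl⟩ := (TStalk.tS x _ L).symm.surjective w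
    induction z using TensorProduct.induction_on with
    | zero => exact ⟨0, by rw [zero_smul, map_zero]⟩
    | tmul a b =>
      obtain ⟨r, rfl⟩ := Submodule.mem_span_singleton.1
        (show b ∈ Submodule.span (X.presheaf.stalk x) {t} by rw [ht]; trivial)
      obtain ⟨q, rfl⟩ := Retr.Witness.exists_smul_oneAt ζ x a
      exact ⟨r * q, by rw [← map_smul, TensorProduct.tmul_smul, mul_smul, TensorProduct.smul_tmul']⟩
    | add z z' h₁ h₂ =>
      obtain ⟨a, ha⟩ := h₁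
      obtain ⟨a', ha'⟩ := h₂
      exact ⟨a + a', by rw [add_smul, ha, ha', map_add]⟩
  have hgc : T.e (M.presheaf.stalkSpecializes h g) =
      (c : X.presheaf.stalk ζ) • Retr.Witness.oneAt ζ ζ := by
    rw [← Retr.Witness.specializes_oneAt ζ h]
    refine Eq.trans (congrArg T.e ?_) (Lines.twist_e (Lines.base ζ) hL v hv _ (c : X.presheaf.stalk ζ))
    rw [LinearEquiv.eq_symm_apply, TStalk.tS_specializes, hc]
    rfl
  have hd : δ ζ ≤ δ x + 1 := by omega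
  have h1 := Gen.sheafFun_sub_eq T hδ hζ cM hx h c.isUnit g hg hgc
  have hφ : s = (↑c⁻¹ : X.presheaf.stalk ζ) •
      (Submodule.Quotient.mk (L.presheaf.stalkSpecializes h t) : Cyc.secFibre L ζ) := by
    rw [hc, C1Tensor.mk_smul_mk, smul_smul, Units.inv_mul, one_smul, hvs]
  rw [Cyc.secDivFun, dif_pos ⟨h, by omega⟩, C1Indep.secOrdAt_eq hδ hL x ζ h hd s hs t ht _ hφ]
  have hne : ∀ w : (X.presheaf.stalk ζ)ˣ, X.residue ζ (w : X.presheaf.stalk ζ) ≠ 0 := fun w =>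
    (w.isUnit.map (X.residue ζ).hom).ne_zero
  have h2 := Ord.ordAt_mul hδ x ζ h hd _ _ (hne c) (hne c⁻¹)
  rw [← map_mul, Units.mul_inv, map_one] at h2
  have h3 := Ord.ordAt_mul hδ x ζ h hd (1 : X.residueField ζ) 1 one_ne_zero one_ne_zero
  rw [mul_one] at h3
  omega

end Families

/-- `c₁(L) ∩ -` kills principal divisors. -/
theorem ratEquivZero_c1 (hδ : Cyc.IsDimFun X δ) {L : X.Modules} (hL : PicF.IsInvertible L)
    {α : AlgebraicCycle X ℤ} (h0 : Cyc.RatEquivZero δ (k + 1) α) (s : (ξ : X) → Cyc.secFibre L ξ)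
    (hs : ∀ ξ, s ξ ≠ 0) (γ : AlgebraicCycle X ℤ) (hγ : ⇑γ = Cyc.c1CapFun δ L ⇑α s) :
    Cyc.RatEquivZero δ k γ := by
  obtain ⟨ι, ξ, f, hξ, hf, hlf, hα⟩ := h0
  have hex : ∀ i, ∃ c : (X.presheaf.stalk (ξ i))ˣ, X.residue (ξ i) (c : X.presheaf.stalk (ξ i)) = f i :=
    fun i => by
    obtain ⟨c, hc⟩ := X.residue_surjective (ξ i) (f i)
    have hu : IsUnit c := by
      by_contra hne
      exact hf i (hc ▸ (IsLocalRing.residue_eq_zero_iff _).2 ((mem_maximalIdeal c).2 hne))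
    exact ⟨hu.unit, hc⟩
  choose c hc using hex
  have hbas := fun i => Lines.exists_basis hL (s (ξ i)) (hs (ξ i))
  choose v hv _hvs using hbas
  let T : Index.Fam ξ fun i => Cyc.closureStructureSheaf (ξ i) :=
    fun i => Lines.scale (Index.base ξ i) (c i)
  have cO : ∀ i, Coh.IsCoh (Cyc.closureStructureSheaf (ξ i)) := fun i =>
    Devissage.Closure.isCoh_closureStructureSheaf _
  obtain ⟨hP, hN, hPN⟩ := parts_spec hδ hlf hξ T cO
  have hdiv : ∀ x, α x = Cyc.sheafFun δ (k + 1) (Index.negPart T) x -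
      Cyc.sheafFun δ (k + 1) (Index.posPart T) x := fun x => by
    rw [hα x, ← neg_sub, hPN (fun i x => -Cyc.divFun δ (ξ i) (f i) x) (fun i y => by
      rw [← hc i, div_scale_base hδ (hξ i), neg_sub]; rfl) x, finsum_neg_distrib, neg_neg]
  have htw : Index.tw δ (k + 1) (k - 1) L (Index.negPart T) -
      Index.tw δ (k + 1) (k - 1) L (Index.posPart T) =
      Index.tw δ (k + 1) (k - 1) L (Index.posPart T) -
      Index.tw δ (k + 1) (k - 1) L (Index.posPart T) := by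
    rw [Index.tw_scale_base hδ hlf hξ hL v hv c]
  have hz : ⇑(0 : AlgebraicCycle X ℤ) = Cyc.c1CapFun δ L (0 : X → ℤ) s := by
    funext x
    simp [Cyc.c1CapFun]
  have := ratEquiv_c1_of_tw hδ hL hL hN hP hP hP htw hdiv (fun x => (sub_self _).symm) s
    (fun ξ _ => hs ξ) s (fun ξ _ => hs ξ) γ 0 hγ hz
  rwa [Cyc.RatEquiv, sub_zero] at this

end Groth.Agent.Lib.Cyc.C1K.Chow

namespace Groth.Agent.Lib.Cyc.C1K.Chow

open Groth.Agent.Lib Groth.Agent.Lib.Cyc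

variable {X : Scheme.{u}} [IsLocallyNoetherian X] {δ : X → ℤ} {k : ℤ}

/-- Divisors of two invertible modules on a closure: the caps commute. -/
theorem ratEquiv_c1_comm (hδ : Cyc.IsDimFun X δ) {ζ : X} (hζ : δ ζ = k + 1 + 1) {L N : X.Modules}
    (hL : PicF.IsInvertible L) (hN : PicF.IsInvertible N) (s : Cyc.secFibre L ζ) (hs : s ≠ 0)
    (t : Cyc.secFibre N ζ) (ht : t ≠ 0) (u : (ξ : X) → Cyc.secFibre N ξ) (hu : ∀ ξ, u ξ ≠ 0)
    (v : (ξ : X) → Cyc.secFibre L ξ) (hv : ∀ ξ, v ξ ≠ 0) (γ₁ γ₂ : AlgebraicCycle X ℤ)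
    (h₁ : ⇑γ₁ = Cyc.c1CapFun δ N (Cyc.secDivFun δ L ζ s) u)
    (h₂ : ⇑γ₂ = Cyc.c1CapFun δ L (Cyc.secDivFun δ N ζ t) v) : Cyc.RatEquiv δ k γ₁ γ₂ := by
  let ξ : PUnit.{u + 1} → X := fun _ => ζ
  have hlf : Family.LF ξ := fun x => ⟨Set.univ, isOpen_univ, trivial, Set.toFinite _⟩
  have hξ : ∀ i, δ (ξ i) = k + 1 + 1 := fun _ => hζ
  obtain ⟨a, ha, has⟩ := Lines.exists_basis hL s hs
  obtain ⟨b, hb, hbt⟩ := Lines.exists_basis hN t ht
  let TL := Index.twist hL (fun _ => a) (fun _ => ha) (Index.base ξ)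
  let TN := Index.twist hN (fun _ => b) (fun _ => hb) (Index.base ξ)
  have cO := fun i => Devissage.Closure.isCoh_closureStructureSheaf (X := X) (ξ i)
  obtain ⟨hP, hQ, hPQ⟩ := parts_spec hδ hlf hξ TL fun i => CurveBundle.Twist.isCoh hL (cO i)
  obtain ⟨hP', hQ', hPQ'⟩ := parts_spec hδ hlf hξ TN fun i => CurveBundle.Twist.isCoh hN (cO i)
  refine ratEquiv_c1_of_tw hδ hN hL hP hQ hP' hQ'
    (Index.tw_comm hδ hlf hξ hL hN (fun _ => a) (fun _ => ha) (fun _ => b) (fun _ => hb)) ?_ ?_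
    u (fun ξ _ => hu ξ) v (fun ξ _ => hv ξ) γ₁ γ₂ h₁ h₂
  · intro x
    rw [hPQ (fun _ x => Cyc.secDivFun δ L ζ s x)
      (fun _ y => div_twist_base hδ hζ hL a ha s hs has y) x, finsum_unique]
  · intro x
    rw [hPQ' (fun _ x => Cyc.secDivFun δ N ζ t x)
      (fun _ y => div_twist_base hδ hζ hN b hb t ht hbt y) x, finsum_unique]

end Groth.Agent.Lib.Cyc.C1K.Chow
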