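import Groth.Agent.Lib.Cyc.Retr.Witness

/-!
# Two modules on a closure with the same generic stalk: common submodule and the index
-/

set_option autoImplicit false
set_option linter.style.haveILetI false
universe u

open CategoryTheory CategoryTheory.Limits AlgebraicGeometry IsLocalRing

namespace Groth.Agent.Lib.Cyc.C1K.Gen

open Groth.Agent.Lib Groth.Agent.Lib.Cyc Groth.Agent.Lib.Cyc.Retr Groth.Agent.Lib.Cyc.Retr.Point
  Groth.Agent.Lib.Cyc.Retr.Idx Groth.Agent.Lib.Cyc.Retr.Witness Groth.Agent.Lib.Modules.StalkModule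

variable {X : Scheme.{u}}

noncomputable section

/-- A module on the closure of `ξ` with generic stalk identified with that of the closure. -/
structure Line (ξ : X) (M : X.Modules) where
  e : M.presheaf.stalk ξ ≃ₗ[X.presheaf.stalk ξ] (Cyc.closureStructureSheaf ξ).presheaf.stalk ξ
  supp : ∀ y, ¬ ξ ⤳ y → Subsingleton (M.presheaf.stalk y)
  inj : ∀ y (h : ξ ⤳ y), Function.Injective (M.presheaf.stalkSpecializes h)

variable {ξ : X} {M : X.Modules} (T : Line ξ M)

/-- The map to the skyscraper. -/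
def toK : M ⟶ Devissage.Sky.sky ξ ((Cyc.closureStructureSheaf ξ).presheaf.stalk ξ) :=
  Devissage.Sky.toSky T.e.toLinearMap

theorem toK_stalk {x : X} (h : ξ ⤳ x) (v : M.presheaf.stalk x) :
    (Devissage.Sky.sky ξ ((Cyc.closureStructureSheaf ξ).presheaf.stalk ξ)).presheaf.stalkSpecializes h
        (stalkMapₗ (toK T) x v) =
      Devissage.Sky.stalkEquiv ξ _ (T.e (M.presheaf.stalkSpecializes h v)) := by
  rw [← Additive.stalkMap_specializes (toK T) h v, toK, Devissage.Sky.stalkMapₗ_toSky]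
  rfl

theorem mono_toK : Mono (toK T) := by
  rw [mono_iff_stalkMapₗ_injective]
  intro y
  by_cases h : ξ ⤳ y
  · intro a b hab
    have := congrArg ((Devissage.Sky.sky ξ
      ((Cyc.closureStructureSheaf ξ).presheaf.stalk ξ)).presheaf.stalkSpecializes h) hab
    rw [toK_stalk, toK_stalk, EmbeddingLike.apply_eq_iff_eq, EmbeddingLike.apply_eq_iff_eq] at this
    exact T.inj y h this
  · haveI := T.supp y h
    exact Function.injective_of_subsingleton _

/-- The common submodule. -/
def J : X.Modules := kernel (Witness.toK ξ 1 ≫ cokernel.π (toK T))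

/-- Its inclusion in the structure sheaf of the closure. -/
def incl : J T ⟶ Cyc.closureStructureSheaf ξ := kernel.ι _

instance : Mono (incl T) := inferInstanceAs (Mono (kernel.ι _))

/-- Its map to `M`. -/
def quot : J T ⟶ M :=
  haveI := mono_toK T
  Abelian.monoLift (toK T) (incl T ≫ Witness.toK ξ 1) (by
    rw [Category.assoc]; exact kernel.condition _)

theorem quot_comp : quot T ≫ toK T = incl T ≫ Witness.toK ξ 1 :=
  haveI := mono_toK T
  Abelian.monoLift_comp _ _ _

theorem mono_quot : Mono (quot T) := by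
  haveI := Witness.mono_toK ξ (isUnit_one (M := X.presheaf.stalk ξ))
  haveI : Mono (quot T ≫ toK T) := by rw [quot_comp]; infer_instance
  exact mono_of_mono _ (toK T)

theorem range_incl {x : X} (h : ξ ⤳ x) (a : (Cyc.closureStructureSheaf ξ).presheaf.stalk x) :
    a ∈ LinearMap.range (stalkMapₗ (incl T) x) ↔
      ∃ b, T.e (M.presheaf.stalkSpecializes h b) =
        (Cyc.closureStructureSheaf ξ).presheaf.stalkSpecializes h a := by
  let O := Cyc.closureStructureSheaf ξ
  let K := Devissage.Sky.sky ξ (O.presheaf.stalk ξ)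
  have hk : ((ShortComplex.mk (incl T) (Witness.toK ξ 1 ≫ cokernel.π (toK T))
      (kernel.condition _)).Exact) := ShortComplex.exact_kernel _
  have hc' : (ShortComplex.mk (toK T) (cokernel.π (toK T)) (cokernel.condition _)).Exact :=
    ShortComplex.exact_cokernel _
  have e1 := (ShortComplex.ab_exact_iff_function_exact _).mp ((Modules.Stalk.exact_iff_stalk _).mp hk x)
  have e2 := (ShortComplex.ab_exact_iff_function_exact _).mp ((Modules.Stalk.exact_iff_stalk _).mp hc' x)
  have h1 : ∀ a, a ∈ LinearMap.range (stalkMapₗ (incl T) x) ↔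
      stalkMapₗ (cokernel.π (toK T)) x (stalkMapₗ (Witness.toK ξ 1) x a) = 0 := fun a => by
    rw [← LinearMap.comp_apply, ← stalkMapₗ_comp]
    exact (e1 a).symm
  rw [h1]
  constructor
  · intro h0
    obtain ⟨b, hb⟩ := (e2 _).1 h0
    refine ⟨b, (Devissage.Sky.stalkEquiv ξ (O.presheaf.stalk ξ)).injective ?_⟩
    rw [← toK_stalk T h b, show stalkMapₗ (toK T) x b = stalkMapₗ (Witness.toK ξ 1) x a from hb,
      Witness.toK_stalk ξ 1 h a, one_smul]
  · rintro ⟨b, hb⟩
    refine (e2 _).2 ⟨b, ?_⟩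
    refine Witness.sky_specializes_injective (O.presheaf.stalk ξ) h ?_
    show K.presheaf.stalkSpecializes h (stalkMapₗ (toK T) x b) =
      K.presheaf.stalkSpecializes h (stalkMapₗ (Witness.toK ξ 1) x a)
    rw [toK_stalk T h b, Witness.toK_stalk ξ 1 h a, one_smul, hb]

theorem quot_stalk {x : X} (h : ξ ⤳ x) (j : (J T).presheaf.stalk x) :
    T.e (M.presheaf.stalkSpecializes h (stalkMapₗ (quot T) x j)) =
      (Cyc.closureStructureSheaf ξ).presheaf.stalkSpecializes h (stalkMapₗ (incl T) x j) := by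
  refine (Devissage.Sky.stalkEquiv ξ ((Cyc.closureStructureSheaf ξ).presheaf.stalk ξ)).injective ?_
  rw [← toK_stalk T h, ← LinearMap.comp_apply (stalkMapₗ (toK T) x), ← stalkMapₗ_comp, quot_comp,
    stalkMapₗ_comp, LinearMap.comp_apply, Witness.toK_stalk ξ 1 h, one_smul]

theorem surjective_incl_self : Function.Surjective (stalkMapₗ (incl T) ξ) := fun a => by
  have : a ∈ LinearMap.range (stalkMapₗ (incl T) ξ) := by
    refine (range_incl T specializes_rfl a).2 ⟨T.e.symm a, ?_⟩
    rw [TopCat.Presheaf.stalkSpecializes_refl, TopCat.Presheaf.stalkSpecializes_refl]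
    exact T.e.apply_symm_apply a
  exact this

theorem surjective_quot_self : Function.Surjective (stalkMapₗ (quot T) ξ) := fun a => by
  obtain ⟨j, hj⟩ := surjective_incl_self T (T.e a)
  refine ⟨j, T.e.injective ?_⟩
  have := quot_stalk T specializes_rfl j
  rw [TopCat.Presheaf.stalkSpecializes_refl, TopCat.Presheaf.stalkSpecializes_refl] at this
  exact this.trans hj

theorem stalk_trivial_J {y : X} (h : ¬ ξ ⤳ y) : Subsingleton ((J T).presheaf.stalk y) :=
  haveI := Witness.stalk_trivial_of_not_specializes h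
  ((mono_iff_stalkMapₗ_injective (incl T)).1 inferInstance y).subsingleton

variable [IsLocallyNoetherian X]

theorem isCoh_J (hM : Coh.IsCoh M) : Coh.IsCoh (J T) := by
  haveI := hM.1
  haveI := Witness.isQCoh_target ξ
  haveI := (Devissage.Closure.isCoh_closureStructureSheaf ξ).1
  exact CohBasics.Closure.isCoh_kernel _ (Devissage.Closure.isCoh_closureStructureSheaf ξ)
    (QCoh.Closure.isQCoh_cokernel (toK T))

theorem cohLe_cokernel {δ : X → ℤ} {k : ℤ} (hδ : Cyc.IsDimFun X δ) (hξ : δ ξ = k + 1)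
    {A B : X.Modules} (f : A ⟶ B) (hA : Coh.IsCoh A) (hB : Coh.IsCoh B)
    (hsupp : ∀ y, ¬ ξ ⤳ y → Subsingleton (B.presheaf.stalk y))
    (hs : Function.Surjective (stalkMapₗ f ξ)) : Cyc.CohLe δ k (cokernel f) := by
  refine ⟨CohBasics.Closure.isCoh_cokernel f hA.1 hB, fun y hy => ?_⟩
  haveI := hy
  have hπ : Function.Surjective (stalkMapₗ (cokernel.π f) y) :=
    (epi_iff_stalkMapₗ_surjective (cokernel.π f)).1 inferInstance y
  by_cases h : ξ ⤳ y
  · by_cases hne : ξ = y
    · subst hne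
      exfalso
      obtain ⟨v, hv⟩ := exists_ne (0 : (cokernel f).presheaf.stalk ξ)
      obtain ⟨w, rfl⟩ := hπ v
      obtain ⟨j, rfl⟩ := hs w
      refine hv ?_
      rw [← LinearMap.comp_apply, ← stalkMapₗ_comp, cokernel.condition, stalkMapₗ_zero,
        LinearMap.zero_apply]
    · have := DimFun.lt_of_specializes hδ h hne
      omega
  · haveI := hsupp y h
    exact absurd hπ.subsingleton (not_subsingleton_iff_nontrivial.2 hy)

theorem cohLe_incl {δ : X → ℤ} {k : ℤ} (hδ : Cyc.IsDimFun X δ) (hξ : δ ξ = k + 1)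
    (hM : Coh.IsCoh M) : Cyc.CohLe δ k (cokernel (incl T)) :=
  cohLe_cokernel hδ hξ _ (isCoh_J T hM) (Devissage.Closure.isCoh_closureStructureSheaf ξ)
    (fun _ h => Witness.stalk_trivial_of_not_specializes h) (surjective_incl_self T)

theorem cohLe_quot {δ : X → ℤ} {k : ℤ} (hδ : Cyc.IsDimFun X δ) (hξ : δ ξ = k + 1)
    (hM : Coh.IsCoh M) : Cyc.CohLe δ k (cokernel (quot T)) :=
  cohLe_cokernel hδ hξ _ (isCoh_J T hM) hM T.supp (surjective_quot_self T)

/-- The difference of the two cokernels is the order of the generator. -/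
theorem sheafFun_sub_eq {δ : X → ℤ} {k : ℤ} (hδ : Cyc.IsDimFun X δ) (hξ : δ ξ = k + 1)
    (hM : Coh.IsCoh M) {x : X} (hx : δ x = k) (h : ξ ⤳ x) {c : X.presheaf.stalk ξ} (hc : IsUnit c)
    (g : M.presheaf.stalk x) (hg : ∀ v : M.presheaf.stalk x, ∃ r : X.presheaf.stalk x, r • g = v)
    (hgc : T.e (M.presheaf.stalkSpecializes h g) = c • oneAt ξ ξ) :
    Cyc.sheafFun δ k (cokernel (incl T)) x - Cyc.sheafFun δ k (cokernel (quot T)) x =
      Cyc.ordAt x ξ h (X.residue ξ c) := by
  haveI := mono_quot T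
  have hF1 := K0.Cycles.length_ne_top k hδ (cohLe_incl T hδ hξ hM) hx
  have hF2 := K0.Cycles.length_ne_top k hδ (cohLe_quot T hδ hξ hM) hx
  rw [Cyc.sheafFun, Cyc.sheafFun, if_pos hx, if_pos hx,
    ← Witness.idx_span hδ hx (⟨ξ, hξ, h⟩ : Big δ k x) hc]
  rw [Witness.length_cokernel_stalk] at hF1 hF2 ⊢
  rw [Witness.length_cokernel_stalk]
  exact (idx_compare T (⟨ξ, hξ, h⟩ : Big δ k x) rfl g hg hgc rfl hF1 hF2).symm
where
  idx_compare {ξ : X} {M : X.Modules} (T : Line ξ M) {δ : X → ℤ} {k : ℤ} {x : X} (i : Big δ k x)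
      (hi : i.1 = ξ) {c : X.presheaf.stalk ξ} (g : M.presheaf.stalk x)
      (hg : ∀ v : M.presheaf.stalk x, ∃ r : X.presheaf.stalk x, r • g = v)
      (hgc : T.e (M.presheaf.stalkSpecializes (hi ▸ i.2.2) g) = c • oneAt ξ ξ)
      {A : Submodule (X.presheaf.stalk x) ((Cyc.closureStructureSheaf i.1).presheaf.stalk i.1)}
      (hA : Submodule.span _ {oneAt i.1 i.1} = A)
      (hF1 : qlen ⊤ (LinearMap.range (stalkMapₗ (incl T) x)) ≠ ⊤)
      (hF2 : qlen ⊤ (LinearMap.range (stalkMapₗ (quot T) x)) ≠ ⊤) :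
      idx A (A.map (mulC i _ (hi.symm ▸ c))) =
        ((qlen ⊤ (LinearMap.range (stalkMapₗ (incl T) x))).toNat : ℤ) -
          ((qlen ⊤ (LinearMap.range (stalkMapₗ (quot T) x))).toNat : ℤ) := by
    subst hi
    let O := Cyc.closureStructureSheaf i.1
    let sp : O.presheaf.stalk x →ₗ[X.presheaf.stalk x] O.presheaf.stalk i.1 :=
      (LinearMap.proj i).comp (phi O δ k x)
    let μ := mulC i O c
    let spM : M.presheaf.stalk x →ₗ[X.presheaf.stalk x] O.presheaf.stalk i.1 :=
      { toFun := fun v => T.e (M.presheaf.stalkSpecializes i.2.2 v)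
        map_add' := fun a b => by rw [map_add, map_add]
        map_smul' := fun r v => by
          rw [RingHom.id_apply, C1.stalkSpecializes_smul, map_smul, Point.smul_def] }
    have hsp : ∀ v, sp v = O.presheaf.stalkSpecializes i.2.2 v := fun v => rfl
    have hsp' : LinearMap.range sp = A := by
      rw [← hA]
      refine le_antisymm ?_ ((Submodule.span_singleton_le_iff_mem _ _).2
        ⟨oneAt i.1 x, by rw [hsp, specializes_oneAt]⟩)
      rintro _ ⟨v, rfl⟩
      obtain ⟨r, rfl⟩ := exists_smul_oneAt i.1 x v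
      rw [map_smul, hsp, specializes_oneAt]
      exact Submodule.smul_mem _ _ (Submodule.mem_span_singleton_self _)
    have hspM : LinearMap.range spM = A.map μ := by
      rw [← hA, Submodule.map_span, Set.image_singleton]
      refine le_antisymm ?_ ((Submodule.span_singleton_le_iff_mem _ _).2 ⟨g, hgc⟩)
      rintro _ ⟨v, rfl⟩
      obtain ⟨r, rfl⟩ := hg v
      rw [map_smul]
      exact Submodule.smul_mem _ _ (Submodule.mem_span_singleton.2 ⟨1, by rw [one_smul]; exact hgc.symm⟩)
    have r1 : LinearMap.range (stalkMapₗ (incl T) x) = (A ⊓ A.map μ).comap sp := by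
      ext a
      rw [range_incl T i.2.2 a, Submodule.mem_comap]
      constructor
      · rintro ⟨b, hb⟩
        exact ⟨hsp' ▸ ⟨a, rfl⟩, hspM ▸ ⟨b, hb⟩⟩
      · rintro ⟨-, hwa⟩
        rw [← hspM] at hwa
        obtain ⟨b, hb⟩ := hwa
        exact ⟨b, hb⟩
    have r2 : LinearMap.range (stalkMapₗ (quot T) x) = (A.map μ ⊓ A).comap spM := by
      ext b
      constructor
      · rintro ⟨j, rfl⟩
        refine ⟨hspM ▸ ⟨_, rfl⟩, ?_⟩
        rw [← hsp']
        exact ⟨stalkMapₗ (incl T) x j, (quot_stalk T i.2.2 j).symm⟩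
      · rintro ⟨-, ha⟩
        rw [← hsp'] at ha
        obtain ⟨a, ha⟩ := ha
        obtain ⟨j, hj⟩ := (range_incl T i.2.2 a).2 ⟨b, ha.symm⟩
        refine ⟨j, T.inj x i.2.2 (T.e.injective ?_)⟩
        rw [quot_stalk T i.2.2 j, hj]
        exact ha
    have htop : (⊤ : Submodule (X.presheaf.stalk x) (O.presheaf.stalk x)) = A.comap sp := by
      rw [← hsp', eq_comm, eq_top_iff]
      exact fun v _ => ⟨v, rfl⟩
    have htopM : (⊤ : Submodule (X.presheaf.stalk x) (M.presheaf.stalk x)) = (A.map μ).comap spM := by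
      rw [← hspM, eq_comm, eq_top_iff]
      exact fun v _ => ⟨v, rfl⟩
    have q1 : qlen ⊤ (LinearMap.range (stalkMapₗ (incl T) x)) = qlen A (A.map μ) := by
      rw [r1, htop, qlen_comap sp hsp'.ge, qlen_inf]
    have q2 : qlen ⊤ (LinearMap.range (stalkMapₗ (quot T) x)) = qlen (A.map μ) A := by
      rw [r2, htopM, qlen_comap spM hspM.ge, qlen_inf]
    rw [idx, ← q1, ← q2]

end

end Groth.Agent.Lib.Cyc.C1K.Gen
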