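import Groth.Agent.Lib.Cyc.C1K.Chow

/-!
# `c₁(L) ∩ c₁(N) ∩ α ∼ c₁(N) ∩ c₁(L) ∩ α`
-/

set_option autoImplicit false
set_option linter.style.haveILetI false
universe u

open CategoryTheory CategoryTheory.Limits AlgebraicGeometry

namespace Groth.Agent.Lib.Cyc.C1K.Comm

open Groth.Agent.Lib Groth.Agent.Lib.Cyc Groth.Agent.Lib.Cyc.C1K

variable {X : Scheme.{u}} [IsLocallyNoetherian X] {δ : X → ℤ} {k : ℤ}

/-- `c₁(L) ∩ -` of a difference of modules is a cycle. -/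
theorem exists_cap (hδ : Cyc.IsDimFun X δ) {L : X.Modules} (hL : PicF.IsInvertible L)
    {P Q : X.Modules} (hP : Cyc.CohLe δ (k + 1) P) (hQ : Cyc.CohLe δ (k + 1) Q) {ρ : X → ℤ}
    (hρ : ∀ x, ρ x = Cyc.sheafFun δ (k + 1) P x - Cyc.sheafFun δ (k + 1) Q x)
    (s : (ξ : X) → Cyc.secFibre L ξ) (hs : ∀ ξ, s ξ ≠ 0) :
    ∃ γ : AlgebraicCycle X ℤ, ⇑γ = Cyc.c1CapFun δ L ρ s := by
  obtain ⟨A, B, hA, hB, -, f⟩ := Main.cl_twist_sub hL hδ hP s fun ξ _ => hs ξ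
  obtain ⟨A', B', hA', hB', -, f'⟩ := Main.cl_twist_sub hL hδ hQ s fun ξ _ => hs ξ
  refine ⟨(FP.Rat.cycleOf k hδ hA - FP.Rat.cycleOf k hδ hB) -
    (FP.Rat.cycleOf k hδ hA' - FP.Rat.cycleOf k hδ hB'), funext fun x => ?_⟩
  simp only [Function.locallyFinsuppWithin.coe_sub, Pi.sub_apply]
  rw [Chow.c1Cap_sub hδ hP hQ hρ, ← f, ← f']
  rfl

variable {ι : Type u} {ξ : ι → X}

/-- The divisors of a family are a difference of modules. -/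
theorem exists_div (hδ : Cyc.IsDimFun X δ) (hlf : Family.LF ξ) (hξ : ∀ n, δ (ξ n) = k + 1 + 1)
    {L : X.Modules} (hL : PicF.IsInvertible L) (s : ∀ n, Cyc.secFibre L (ξ n)) (hs : ∀ n, s n ≠ 0) :
    ∃ (v : ∀ n, L.presheaf.stalk (ξ n)) (hv : ∀ n, Lines.IsBasis L (v n)),
      Cyc.CohLe δ (k + 1) (Index.posPart (Index.twist hL v hv (Index.base ξ))) ∧
      Cyc.CohLe δ (k + 1) (Index.negPart (Index.twist hL v hv (Index.base ξ))) ∧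
      ∀ x, (∑ᶠ n, Cyc.secDivFun δ L (ξ n) (s n) x) =
        Cyc.sheafFun δ (k + 1) (Index.posPart (Index.twist hL v hv (Index.base ξ))) x -
          Cyc.sheafFun δ (k + 1) (Index.negPart (Index.twist hL v hv (Index.base ξ))) x := by
  choose v hv hvv using fun n => Lines.exists_basis hL (s n) (hs n)
  obtain ⟨hP, hQ, hPQ⟩ := Chow.parts_spec hδ hlf hξ (Index.twist hL v hv (Index.base ξ))
    fun n => CurveBundle.Twist.isCoh hL (Devissage.Closure.isCoh_closureStructureSheaf _)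
  refine ⟨v, hv, hP, hQ, fun x => ?_⟩
  rw [hPQ (fun n x => Cyc.secDivFun δ L (ξ n) (s n) x)
    (fun n y => Chow.div_twist_base hδ (hξ n) hL (v n) (hv n) (s n) (hs n) (hvv n) y) x]

/-- Families. -/
theorem ratEquiv_comm_family (hδ : Cyc.IsDimFun X δ) (hlf : Family.LF ξ)
    (hξ : ∀ n, δ (ξ n) = k + 1 + 1) {L N : X.Modules}
    (hL : PicF.IsInvertible L) (hN : PicF.IsInvertible N)
    (s : ∀ n, Cyc.secFibre L (ξ n)) (hs : ∀ n, s n ≠ 0)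
    (t : ∀ n, Cyc.secFibre N (ξ n)) (ht : ∀ n, t n ≠ 0)
    (u : (ξ : X) → Cyc.secFibre N ξ) (hu : ∀ ξ, u ξ ≠ 0)
    (v : (ξ : X) → Cyc.secFibre L ξ) (hv : ∀ ξ, v ξ ≠ 0) :
    ∃ γ₁ γ₂ : AlgebraicCycle X ℤ, Cyc.RatEquiv δ k γ₁ γ₂ ∧
      ⇑γ₁ = Cyc.c1CapFun δ N (fun x => ∑ᶠ n, Cyc.secDivFun δ L (ξ n) (s n) x) u ∧
      ⇑γ₂ = Cyc.c1CapFun δ L (fun x => ∑ᶠ n, Cyc.secDivFun δ N (ξ n) (t n) x) v := by
  obtain ⟨a, ha, hP, hQ, e⟩ := exists_div hδ hlf hξ hL s hs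
  obtain ⟨b, hb, hP', hQ', e'⟩ := exists_div hδ hlf hξ hN t ht
  obtain ⟨γ₁, h₁⟩ := exists_cap hδ hN hP hQ (ρ := fun x => ∑ᶠ n, Cyc.secDivFun δ L (ξ n) (s n) x) e u hu
  obtain ⟨γ₂, h₂⟩ := exists_cap hδ hL hP' hQ' (ρ := fun x => ∑ᶠ n, Cyc.secDivFun δ N (ξ n) (t n) x) e' v hv
  exact ⟨γ₁, γ₂, Chow.ratEquiv_c1_of_tw hδ hN hL hP hQ hP' hQ'
    (Index.tw_comm hδ hlf hξ hL hN a ha b hb) e e' u (fun ξ _ => hu ξ) v (fun ξ _ => hv ξ) γ₁ γ₂ h₁ h₂,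
    h₁, h₂⟩

/-- A natural-valued locally finite function gives a locally finite family. -/
theorem lf_idx (a : X → ℤ) (hfin : ∀ x : X, ∃ U : X.Opens, x ∈ U ∧ ((U : Set X) ∩ a.support).Finite) :
    Family.LF fun n : K0.Sum.Idx a => n.1.1 := fun x => by
  classical
  obtain ⟨U, hx, hfin⟩ := hfin x
  refine ⟨U, U.2, hx, ?_⟩
  have hS : {ζ : {ζ : X // 0 < a ζ} | ζ.1 ∈ U}.Finite :=
    (hfin.preimage Subtype.val_injective.injOn).subset fun ζ hζ => ⟨hζ, ne_of_gt ζ.2⟩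
  refine ((hS.toFinset.sigma fun _ => Finset.univ).finite_toSet).subset ?_
  rintro n ⟨y, hy, hyU⟩
  exact Finset.mem_sigma.2 ⟨hS.mem_toFinset.2 ((specializes_iff_mem_closure.2 hy).mem_open U.2 hyU),
    Finset.mem_univ _⟩

omit [IsLocallyNoetherian X] in
/-- Supports of cycles are locally finite, with opens. -/
theorem finite_nhd (α : AlgebraicCycle X ℤ) (x : X) :
    ∃ U : X.Opens, x ∈ U ∧ ((U : Set X) ∩ (⇑α).support).Finite := by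
  obtain ⟨t, ht, hf⟩ := α.supportLocallyFiniteWithinDomain' x trivial
  obtain ⟨U, hUt, hU, hxU⟩ := mem_nhds_iff.1 ht
  exact ⟨⟨U, hU⟩, hxU, hf.subset (Set.inter_subset_inter_left _ hUt)⟩

omit [IsLocallyNoetherian X] in
/-- A cycle as a difference of two indexed families. -/
theorem finsum_parts (α : AlgebraicCycle X ℤ) (g : X → X → ℤ) (hg : ∀ ζ x, ¬ ζ ⤳ x → g ζ x = 0) (x : X) :
    (∑ᶠ ζ, α ζ * g ζ x) =
      (∑ᶠ n : K0.Sum.Idx (fun y => max (α y) 0), g n.1.1 x) -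
        ∑ᶠ n : K0.Sum.Idx (fun y => max (-α y) 0), g n.1.1 x := by
  have h1 : (Function.support fun ζ => max (α ζ) 0 * g ζ x).Finite :=
    (C1Indep.finite_support_mul α (fun ζ => g ζ x) x (fun ζ h => hg ζ x h)).subset fun ζ h => by
      have ha := left_ne_zero_of_mul h
      exact mul_ne_zero (fun h0 => ha (by simp [h0])) (right_ne_zero_of_mul h)
  have h2 : (Function.support fun ζ => max (-α ζ) 0 * g ζ x).Finite :=
    (C1Indep.finite_support_mul α (fun ζ => g ζ x) x (fun ζ h => hg ζ x h)).subset fun ζ h => by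
      have ha := left_ne_zero_of_mul h
      exact mul_ne_zero (fun h0 => ha (by simp [h0])) (right_ne_zero_of_mul h)
  rw [Main.finsum_idx (fun y => max (α y) 0) (fun ζ => g ζ x) (fun ζ => le_max_right _ _) h1,
    Main.finsum_idx (fun y => max (-α y) 0) (fun ζ => g ζ x) (fun ζ => le_max_right _ _) h2,
    ← finsum_sub_distrib h1 h2]
  exact finsum_congr fun ζ => by rw [← sub_mul, max_zero_sub_max_neg_zero_eq_self]

/-- `c₁` is linear on differences of cycles. -/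
theorem c1Cap_sub_cycle {L : X.Modules} (α β : AlgebraicCycle X ℤ) (s : (ξ : X) → Cyc.secFibre L ξ)
    (x : X) :
    Cyc.c1CapFun δ L ⇑(α - β) s x = Cyc.c1CapFun δ L ⇑α s x - Cyc.c1CapFun δ L ⇑β s x := by
  have hF : ∀ ζ, ¬ ζ ⤳ x → Cyc.secDivFun δ L ζ (s ζ) x = 0 := fun ζ hζ => dif_neg fun h => hζ h.1
  simp only [Cyc.c1CapFun]
  rw [← finsum_sub_distrib (C1Indep.finite_support_mul α _ x hF) (C1Indep.finite_support_mul β _ x hF)]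
  exact finsum_congr fun ζ => by rw [Function.locallyFinsuppWithin.coe_sub, Pi.sub_apply, sub_mul]

/-- The caps commute. -/
theorem ratEquiv_comm (hδ : Cyc.IsDimFun X δ) {L N : X.Modules}
    (hL : PicF.IsInvertible L) (hN : PicF.IsInvertible N) {α : AlgebraicCycle X ℤ}
    (hα : α ∈ Cyc.Zk X δ (k + 1 + 1))
    (sL sL' : (ξ : X) → Cyc.secFibre L ξ) (sN sN' : (ξ : X) → Cyc.secFibre N ξ)
    (hsL : ∀ ξ, sL ξ ≠ 0) (hsL' : ∀ ξ, sL' ξ ≠ 0) (hsN : ∀ ξ, sN ξ ≠ 0) (hsN' : ∀ ξ, sN' ξ ≠ 0)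
    (γ₁ γ₂ : AlgebraicCycle X ℤ)
    (h₁ : ⇑γ₁ = Cyc.c1CapFun δ L (Cyc.c1CapFun δ N ⇑α sN) sL)
    (h₂ : ⇑γ₂ = Cyc.c1CapFun δ N (Cyc.c1CapFun δ L ⇑α sL') sN') : Cyc.RatEquiv δ k γ₁ γ₂ := by
  have hs : ∀ (b : X → ℤ), (∀ x, b x ≠ 0 → α x ≠ 0) →
      (∀ x, ∃ U : X.Opens, x ∈ U ∧ ((U : Set X) ∩ b.support).Finite) ∧
        ∀ x, b x ≠ 0 → δ x = k + 1 + 1 := fun b hb =>
    ⟨fun x => (finite_nhd α x).imp fun U hU => ⟨hU.1, hU.2.subset fun y hy => ⟨hy.1, hb y hy.2⟩⟩,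
      fun x hx => by by_contra h; exact hb x hx (hα x h)⟩
  obtain ⟨f₁, z₁⟩ := hs (fun y => max (α y) 0) fun x h h0 => h (by simp [h0])
  obtain ⟨f₂, z₂⟩ := hs (fun y => max (-α y) 0) fun x h h0 => h (by simp [h0])
  have hξ₁ : ∀ n : K0.Sum.Idx (fun y => max (α y) 0), δ n.1.1 = k + 1 + 1 := fun n => z₁ _ (ne_of_gt n.1.2)
  have hξ₂ : ∀ n : K0.Sum.Idx (fun y => max (-α y) 0), δ n.1.1 = k + 1 + 1 := fun n => z₂ _ (ne_of_gt n.1.2)
  obtain ⟨a₁, b₁, r₁, ea₁, eb₁⟩ := ratEquiv_comm_family hδ (lf_idx _ f₁) hξ₁ hN hL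
    (fun n => sN n.1.1) (fun n => hsN _) (fun n => sL' n.1.1) (fun n => hsL' _) sL hsL sN' hsN'
  obtain ⟨a₂, b₂, r₂, ea₂, eb₂⟩ := ratEquiv_comm_family hδ (lf_idx _ f₂) hξ₂ hN hL
    (fun n => sN n.1.1) (fun n => hsN _) (fun n => sL' n.1.1) (fun n => hsL' _) sL hsL sN' hsN'
  have key : ∀ {M R : X.Modules} (hM : PicF.IsInvertible M) (q : (ξ : X) → Cyc.secFibre M ξ)
      (_ : ∀ ξ, q ξ ≠ 0) (p : (ξ : X) → Cyc.secFibre R ξ),
      Cyc.c1CapFun δ R (Cyc.c1CapFun δ M ⇑α q) p =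
        Cyc.c1CapFun δ R (fun x => ∑ᶠ n : K0.Sum.Idx (fun y => max (α y) 0), Cyc.secDivFun δ M n.1.1 (q _) x) p -
        Cyc.c1CapFun δ R (fun x => ∑ᶠ n : K0.Sum.Idx (fun y => max (-α y) 0), Cyc.secDivFun δ M n.1.1 (q _) x) p := by
    intro M R hM q hq p
    obtain ⟨_, _, hP, hQ, e⟩ := exists_div hδ (lf_idx _ f₁) hξ₁ hM (fun n => q n.1.1) (fun n => hq _)
    obtain ⟨_, _, hP', hQ', e'⟩ := exists_div hδ (lf_idx _ f₂) hξ₂ hM (fun n => q n.1.1) (fun n => hq _)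
    let c₁ := FP.Rat.cycleOf (k + 1) hδ hP - FP.Rat.cycleOf (k + 1) hδ hQ
    let c₂ := FP.Rat.cycleOf (k + 1) hδ hP' - FP.Rat.cycleOf (k + 1) hδ hQ'
    have e1 : (fun x => ∑ᶠ n : K0.Sum.Idx (fun y => max (α y) 0), Cyc.secDivFun δ M n.1.1 (q _) x) = ⇑c₁ :=
      funext fun x => by rw [e]; simp only [c₁, Function.locallyFinsuppWithin.coe_sub, Pi.sub_apply]; rfl
    have e2 : (fun x => ∑ᶠ n : K0.Sum.Idx (fun y => max (-α y) 0), Cyc.secDivFun δ M n.1.1 (q _) x) = ⇑c₂ :=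
      funext fun x => by rw [e']; simp only [c₂, Function.locallyFinsuppWithin.coe_sub, Pi.sub_apply]; rfl
    have e3 : Cyc.c1CapFun δ M ⇑α q = ⇑(c₁ - c₂) := by
      funext x
      rw [Function.locallyFinsuppWithin.coe_sub, Pi.sub_apply, ← e1, ← e2]
      exact finsum_parts α (fun ζ x => Cyc.secDivFun δ M ζ (q ζ) x) (fun ζ x h => dif_neg fun h' => h h'.1) x
    funext x
    rw [e3, e1, e2, Pi.sub_apply, c1Cap_sub_cycle]
  have g₁ : γ₁ = a₁ - a₂ := Function.locallyFinsuppWithin.ext fun x => by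
    rw [Function.locallyFinsuppWithin.coe_sub, Pi.sub_apply, h₁, ea₁, ea₂, key hN sN hsN sL, Pi.sub_apply]
  have g₂ : γ₂ = b₁ - b₂ := Function.locallyFinsuppWithin.ext fun x => by
    rw [Function.locallyFinsuppWithin.coe_sub, Pi.sub_apply, h₂, eb₁, eb₂, key hL sL' hsL' sN', Pi.sub_apply]
  have h := Ord.ratEquivZero_add r₁ (Ord.ratEquivZero_neg hδ r₂)
  rw [Cyc.RatEquiv, g₁, g₂]
  rwa [show a₁ - b₁ + -(a₂ - b₂) = a₁ - a₂ - (b₁ - b₂) by abel] at h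

end Groth.Agent.Lib.Cyc.C1K.Comm
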