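import Groth.Agent.Lib.DerivedOX.TensorSheaf
import Groth.Agent.Lib.Cyc.C1
import Groth.Agent.Lib.CurveBundle.Twist

/-!
# Stalks of `M ⊗ L` and specialization
-/

set_option linter.style.haveILetI false
universe u

open CategoryTheory Limits AlgebraicGeometry Opposite TopologicalSpace MonoidalCategory
open scoped TensorProduct

namespace Groth.Agent.Lib.Cyc.C1K.TStalk

open Groth.Agent.Lib Groth.Agent.Lib.Modules Groth.Agent.Lib.DerivedOX

variable {X : Scheme.{u}}

/-- `(M ⊗ L)_x ≅ M_x ⊗ L_x`. -/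
noncomputable def tS (x : X) (M L : X.Modules) :
    (CohB1.tensorMod M L).presheaf.stalk x ≃ₗ[X.presheaf.stalk x]
      M.presheaf.stalk x ⊗[X.presheaf.stalk x] L.presheaf.stalk x :=
  TensorSheaf.tensorStalk x M L

theorem tmap_eq {M M' : X.Modules} (f : M ⟶ M') (L : X.Modules) :
    TensorMod.Basic.tmap f (𝟙 L) = (DCoh.tensorBi.map f).app L := by
  simp [DCoh.tensorBi, TensorMod.Basic.tmap, TensorMod.Reflective.tm]
  rfl

theorem tS_natural (x : X) {M M' : X.Modules} (f : M ⟶ M') (L : X.Modules)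
    (z : (CohB1.tensorMod M L).presheaf.stalk x) :
    tS x M' L (StalkModule.stalkMapₗ (TensorMod.Basic.tmap f (𝟙 L)) x z) =
      LinearMap.rTensor _ (StalkModule.stalkMapₗ f x) (tS x M L z) := by
  rw [tmap_eq]
  have := TensorSheaf.tensorStalk_natural x f (𝟙 L) z
  rw [CategoryTheory.Functor.map_id, Category.comp_id, StalkModule.stalkMapₗ_id] at this
  exact this

/-- The tensor of two sections. -/
noncomputable def sec {M L : X.Modules} {U : X.Opens} (p : Γ(M, U)) (q : Γ(L, U)) :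
    Γ(CohB1.tensorMod M L, U) :=
  (TensorSheaf.unitSh (DCoh.toP.obj M ⊗ DCoh.toP.obj L)).app (op U)
    (TensorStalk.tm (P := DCoh.toP.obj M) (Q := DCoh.toP.obj L) p q)

theorem tS_germ {M L : X.Modules} {U : X.Opens} {x : X} (hx : x ∈ U) (p : Γ(M, U)) (q : Γ(L, U)) :
    tS x M L ((CohB1.tensorMod M L).presheaf.germ U x hx (sec p q)) =
      M.presheaf.germ U x hx p ⊗ₜ L.presheaf.germ U x hx q := by
  have e : (CohB1.tensorMod M L).presheaf.germ U x hx (sec p q) =
      TensorSheaf.shStalkEquiv x (DCoh.toP.obj M ⊗ DCoh.toP.obj L)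
        (TensorStalk.germ hx (TensorStalk.tm (P := DCoh.toP.obj M) (Q := DCoh.toP.obj L) p q)) :=
    (TensorStalk.stMap_germ (TensorSheaf.unitSh _) hx _).symm
  rw [e]
  refine (TensorSheaf.tensorStalk_shStalkEquiv x M L _).trans ?_
  rw [TensorStalk.tensorStalkEquiv_germ_tm]
  rfl

/-- Specialization of pure tensors. -/
theorem tS_specializes {M L : X.Modules} {x ξ : X} (h : ξ ⤳ x) (a : M.presheaf.stalk x)
    (b : L.presheaf.stalk x) :
    tS ξ M L ((CohB1.tensorMod M L).presheaf.stalkSpecializes h ((tS x M L).symm (a ⊗ₜ b))) =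
      M.presheaf.stalkSpecializes h a ⊗ₜ L.presheaf.stalkSpecializes h b := by
  obtain ⟨U₁, h₁, p₁, rfl⟩ := TopCat.Presheaf.exists_germ_eq M.presheaf a
  obtain ⟨U₂, h₂, q₂, rfl⟩ := TopCat.Presheaf.exists_germ_eq L.presheaf b
  let U := U₁ ⊓ U₂
  have hx : x ∈ U := ⟨h₁, h₂⟩
  rw [← TopCat.Presheaf.germ_res_apply M.presheaf (homOfLE (inf_le_left : U ≤ U₁)) x hx p₁,
    ← TopCat.Presheaf.germ_res_apply L.presheaf (homOfLE (inf_le_right : U ≤ U₂)) x hx q₂,
    ← tS_germ, LinearEquiv.symm_apply_apply]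
  have e : ∀ (N : X.Modules) (n : Γ(N, U)),
      N.presheaf.stalkSpecializes h (N.presheaf.germ U x hx n) =
        N.presheaf.germ U ξ (h.mem_open U.2 hx) n :=
    fun N n => ConcreteCategory.congr_hom (TopCat.Presheaf.germ_stalkSpecializes N.presheaf hx h) n
  rw [e, e, e, tS_germ]

end Groth.Agent.Lib.Cyc.C1K.TStalk
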