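import Groth.Agent.Lib.Cyc.C1K.Family
import Groth.Agent.Lib.Cyc.C1K.Twist
import Groth.Agent.Lib.Cyc.C1K.TStalk
import Mathlib.CategoryTheory.Abelian.DiagramLemmas.KernelCokernelComp

/-!
# Lines on closures: intersections, scaling, twisting
-/

set_option autoImplicit false
set_option linter.style.haveILetI false
universe u

open CategoryTheory CategoryTheory.Limits AlgebraicGeometry IsLocalRing
open scoped TensorProduct

namespace Groth.Agent.Lib.Cyc.C1K.Lines

open Groth.Agent.Lib Groth.Agent.Lib.Cyc Groth.Agent.Lib.Modules.StalkModule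
  Groth.Agent.Lib.TensorMod.Basic

variable {X : Scheme.{u}}

section Comp

variable {A B C : X.Modules}

/-- `0 → coker f → coker (f ≫ g) → coker g → 0` for a monomorphism `g`. -/
theorem exists_shortExact_cokernel_comp (f : A ⟶ B) (g : B ⟶ C) [Mono g] :
    ∃ S : ShortComplex X.Modules, S.ShortExact ∧ Nonempty (S.X₁ ≅ cokernel f) ∧
      Nonempty (S.X₂ ≅ cokernel (f ≫ g)) ∧ Nonempty (S.X₃ ≅ cokernel g) := by
  let D := kernelCokernelCompSequence.snakeInput f g
  have hz : IsZero (kernel g) := isZero_kernel_of_mono g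
  refine ⟨D.L₃, ShortComplex.ShortExact.mk' D.L₃_exact ?_ ?_, ⟨Iso.refl _⟩, ⟨Iso.refl _⟩, ⟨Iso.refl _⟩⟩
  · exact (D.L₂'_exact.mono_g (hz.eq_of_src _ _))
  · haveI : Epi D.L₂.g := by
      show Epi (biprod.snd : B ⊞ C ⟶ C)
      infer_instance
    exact D.epi_L₃_g

variable [IsLocallyNoetherian X] {δ : X → ℤ} {a b : ℤ}

theorem cl_comp (f : A ⟶ B) (g : B ⟶ C) [Mono g] (hf : Cyc.CohLe δ a (cokernel f))
    (hfg : Cyc.CohLe δ a (cokernel (f ≫ g))) (hg : Cyc.CohLe δ a (cokernel g)) :
    Cyc.toK0CohQuot δ a b (cokernel (f ≫ g)) =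
      Cyc.toK0CohQuot δ a b (cokernel f) + Cyc.toK0CohQuot δ a b (cokernel g) := by
  obtain ⟨S, hS, ⟨e₁⟩, ⟨e₂⟩, ⟨e₃⟩⟩ := exists_shortExact_cokernel_comp f g
  have h₁ : Cyc.CohLe δ a S.X₁ := K0.Cycles.cohLe_of_mono e₁.hom (CohBasics.Closure.isCoh_of_iso e₁.symm hf.1) hf
  have h₂ : Cyc.CohLe δ a S.X₂ := K0.Cycles.cohLe_of_mono e₂.hom (CohBasics.Closure.isCoh_of_iso e₂.symm hfg.1) hfg
  have h₃ : Cyc.CohLe δ a S.X₃ := K0.Cycles.cohLe_of_mono e₃.hom (CohBasics.Closure.isCoh_of_iso e₃.symm hg.1) hg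
  rw [← Retr.K0Tools.cl_iso e₁ h₁ hf.1, ← Retr.K0Tools.cl_iso e₂ h₂ hfg.1,
    ← Retr.K0Tools.cl_iso e₃ h₃ hg.1]
  exact K0.Cycles.mk_rel δ a b hS h₁ h₂ h₃

end Comp

section Inter

variable {K J I : X.Modules} (a : J ⟶ K) [Mono a] (b : I ⟶ K)

/-- `J ∩ I` inside `K`. -/
noncomputable def inter : X.Modules := kernel (b ≫ cokernel.π a)

/-- The inclusion in `I`. -/
noncomputable def interSnd : inter a b ⟶ I := kernel.ι _

instance : Mono (interSnd a b) := inferInstanceAs (Mono (kernel.ι _))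

/-- The inclusion in `J`. -/
noncomputable def interFst : inter a b ⟶ J :=
  Abelian.monoLift a (interSnd a b ≫ b) (by rw [Category.assoc]; exact kernel.condition _)

theorem interFst_comp : interFst a b ≫ a = interSnd a b ≫ b := Abelian.monoLift_comp _ _ _

theorem mono_interFst [Mono b] : Mono (interFst a b) := by
  haveI : Mono (interFst a b ≫ a) := by rw [interFst_comp]; infer_instance
  exact mono_of_mono _ a

theorem surjective_inter {y : X} (ha : Function.Surjective (stalkMapₗ a y))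
    (hb : Function.Surjective (stalkMapₗ b y)) :
    Function.Surjective (stalkMapₗ (interSnd a b) y) ∧
      Function.Surjective (stalkMapₗ (interFst a b) y) := by
  have e1 := (ShortComplex.ab_exact_iff_function_exact _).mp ((Modules.Stalk.exact_iff_stalk _).mp
    (ShortComplex.exact_kernel (b ≫ cokernel.π a)) y)
  have h0 : ∀ v, stalkMapₗ (cokernel.π a) y v = 0 := fun v => by
    obtain ⟨w, rfl⟩ := ha v
    rw [← LinearMap.comp_apply, ← stalkMapₗ_comp, cokernel.condition, stalkMapₗ_zero,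
      LinearMap.zero_apply]
  have hsnd : Function.Surjective (stalkMapₗ (interSnd a b) y) := fun v => by
    have hv : stalkMapₗ (b ≫ cokernel.π a) y v = 0 := by
      rw [stalkMapₗ_comp, LinearMap.comp_apply, h0]
    exact (e1 v).1 hv
  refine ⟨hsnd, fun j => ?_⟩
  obtain ⟨v, hv⟩ := hb (stalkMapₗ a y j)
  obtain ⟨z, hz⟩ := hsnd v
  refine ⟨z, (mono_iff_stalkMapₗ_injective a).1 inferInstance y ?_⟩
  rw [← LinearMap.comp_apply, ← stalkMapₗ_comp, interFst_comp, stalkMapₗ_comp, LinearMap.comp_apply,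
    hz, hv]

theorem isCoh_inter [IsLocallyNoetherian X] (hK : K.IsQuasicoherent) (hJ : Coh.IsCoh J) (hI : Coh.IsCoh I) :
    Coh.IsCoh (inter a b) := by
  haveI := hK
  haveI := hJ.1
  haveI := hI.1
  exact CohBasics.Closure.isCoh_kernel _ hI (QCoh.Closure.isQCoh_cokernel a)

end Inter

variable {ξ : X}

/-- Maps to the skyscraper at `ξ` are determined at `ξ`. -/
theorem sky_hom_ext {N : X.Modules} {V : Type u} [AddCommGroup V] [Module (X.presheaf.stalk ξ) V]
    (hN : ∀ y, ¬ ξ ⤳ y → Subsingleton (N.presheaf.stalk y)) {f g : N ⟶ Devissage.Sky.sky ξ V}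
    (h : ∀ z, stalkMapₗ f ξ z = stalkMapₗ g ξ z) : f = g := by
  refine Modules.Stalk.hom_ext_stalk fun y => ?_
  ext z
  show stalkMapₗ f y z = stalkMapₗ g y z
  by_cases hy : ξ ⤳ y
  · refine Retr.Witness.sky_specializes_injective V hy ?_
    rw [← Retr.Additive.stalkMap_specializes f hy z, ← Retr.Additive.stalkMap_specializes g hy z, h]
  · haveI := hN y hy
    have hz : z = (0 : N.presheaf.stalk y) := Subsingleton.elim (α := N.presheaf.stalk y) z 0
    rw [hz]
    exact (map_zero (stalkMapₗ f y)).trans (map_zero (stalkMapₗ g y)).symm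

theorem toK_self {M : X.Modules} (T : Gen.Line ξ M) (v : M.presheaf.stalk ξ) :
    Devissage.Sky.stalkEquiv ξ _ (T.e v) = stalkMapₗ (Gen.toK T) ξ v := by
  have := Gen.toK_stalk T specializes_rfl v
  rw [TopCat.Presheaf.stalkSpecializes_refl, TopCat.Presheaf.stalkSpecializes_refl] at this
  exact this.symm

theorem surjective_toK_self {M : X.Modules} (T : Gen.Line ξ M) :
    Function.Surjective (stalkMapₗ (Gen.toK T) ξ) := fun w => by
  obtain ⟨v, rfl⟩ := (Devissage.Sky.stalkEquiv ξ _).surjective w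
  obtain ⟨u, rfl⟩ := T.e.surjective v
  exact ⟨u, (toK_self T u).symm⟩

/-- The image in the generic stalk. -/
def img {M : X.Modules} (T : Gen.Line ξ M) {x : X} (h : ξ ⤳ x) :
    Set ((Cyc.closureStructureSheaf ξ).presheaf.stalk ξ) :=
  Set.range fun v => T.e (M.presheaf.stalkSpecializes h v)

/-- Lines with equal images are isomorphic. -/
theorem exists_iso {M N : X.Modules} (S : Gen.Line ξ M) (T : Gen.Line ξ N)
    (h : ∀ x (hx : ξ ⤳ x), img S hx = img T hx) :
    ∃ f : M ≅ N, ∀ v, T.e (stalkMapₗ f.hom ξ v) = S.e v := by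
  haveI := Gen.mono_toK T
  haveI := Gen.mono_toK S
  let K := Devissage.Sky.sky ξ ((Cyc.closureStructureSheaf ξ).presheaf.stalk ξ)
  have key : ∀ y v, ∃ w, stalkMapₗ (Gen.toK T) y w = stalkMapₗ (Gen.toK S) y v := fun y v => by
    by_cases hy : ξ ⤳ y
    · have : S.e (M.presheaf.stalkSpecializes hy v) ∈ img T hy := h y hy ▸ ⟨v, rfl⟩
      obtain ⟨w, hw⟩ := this
      refine ⟨w, Retr.Witness.sky_specializes_injective _ hy ?_⟩
      rw [Gen.toK_stalk, Gen.toK_stalk]
      exact congrArg _ hw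
    · haveI := S.supp y hy
      exact ⟨0, by rw [Subsingleton.elim v 0, map_zero, map_zero]⟩
  have hw0 : Gen.toK S ≫ cokernel.π (Gen.toK T) = 0 := by
    refine Modules.Stalk.hom_ext_stalk fun y => ?_
    ext v
    show stalkMapₗ (Gen.toK S ≫ cokernel.π (Gen.toK T)) y v = stalkMapₗ (0 : M ⟶ _) y v
    obtain ⟨w, hw⟩ := key y v
    rw [stalkMapₗ_zero, LinearMap.zero_apply, stalkMapₗ_comp, LinearMap.comp_apply, ← hw,
      ← LinearMap.comp_apply, ← stalkMapₗ_comp, cokernel.condition, stalkMapₗ_zero, LinearMap.zero_apply]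
  let f := Abelian.monoLift (Gen.toK T) (Gen.toK S) hw0
  have hf : f ≫ Gen.toK T = Gen.toK S := Abelian.monoLift_comp _ _ _
  haveI : Mono f := by
    haveI : Mono (f ≫ Gen.toK T) := by rw [hf]; infer_instance
    exact mono_of_mono _ (Gen.toK T)
  haveI : Epi f := by
    rw [epi_iff_stalkMapₗ_surjective]
    intro y w
    by_cases hy : ξ ⤳ y
    · have : T.e (N.presheaf.stalkSpecializes hy w) ∈ img S hy := (h y hy).symm ▸ ⟨w, rfl⟩
      obtain ⟨v, hv⟩ := this
      refine ⟨v, (mono_iff_stalkMapₗ_injective (Gen.toK T)).1 inferInstance y ?_⟩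
      refine Retr.Witness.sky_specializes_injective _ hy ?_
      rw [← LinearMap.comp_apply, ← stalkMapₗ_comp, hf, Gen.toK_stalk, Gen.toK_stalk]
      exact congrArg _ hv
    · haveI := T.supp y hy
      exact ⟨0, Subsingleton.elim _ _⟩
  haveI : IsIso f := isIso_of_mono_of_epi f
  refine ⟨asIso f, fun v => (Devissage.Sky.stalkEquiv ξ _).injective ?_⟩
  rw [toK_self, toK_self, asIso_hom, ← LinearMap.comp_apply, ← stalkMapₗ_comp, hf]

/-- The structure sheaf of the closure as a line. -/
noncomputable def base (ξ : X) : Gen.Line ξ (Cyc.closureStructureSheaf ξ) where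
  e := LinearEquiv.refl _ _
  supp _ h := Retr.Witness.stalk_trivial_of_not_specializes h
  inj _ h := Retr.Witness.injective_specializes h

/-- Rescaling. -/
noncomputable def scale {M : X.Modules} (T : Gen.Line ξ M) (c : (X.presheaf.stalk ξ)ˣ) : Gen.Line ξ M where
  e := T.e.trans (LinearEquiv.smulOfUnit c)
  supp := T.supp
  inj := T.inj

@[simp]
theorem scale_e {M : X.Modules} (T : Gen.Line ξ M) (c : (X.presheaf.stalk ξ)ˣ) (v : M.presheaf.stalk ξ) :
    (scale T c).e v = (c : X.presheaf.stalk ξ) • T.e v := rfl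

variable {L : X.Modules}

/-- A free generator. -/
def IsBasis (L : X.Modules) (v : L.presheaf.stalk ξ) : Prop :=
  Function.Bijective (LinearMap.toSpanSingleton (X.presheaf.stalk ξ) (L.presheaf.stalk ξ) v)

theorem exists_basis (hL : PicF.IsInvertible L) (s : Cyc.secFibre L ξ) (hs : s ≠ 0) :
    ∃ v : L.presheaf.stalk ξ, IsBasis L v ∧ Submodule.Quotient.mk v = s := by
  obtain ⟨t, ht, hfree⟩ := C1Indep.exists_free_gen hL ξ
  obtain ⟨v, rfl⟩ := Submodule.Quotient.mk_surjective _ s
  obtain ⟨a, rfl⟩ := Submodule.mem_span_singleton.1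
    (show v ∈ Submodule.span (X.presheaf.stalk ξ) {t} by rw [ht]; trivial)
  have hau : IsUnit a := by
    by_contra hu
    refine hs ?_
    rw [Submodule.Quotient.mk_eq_zero]
    exact Submodule.smul_mem_smul ((mem_maximalIdeal a).2 hu) trivial
  refine ⟨a • t, ⟨fun p q hpq => ?_, fun w => ?_⟩, rfl⟩
  · simp only [LinearMap.toSpanSingleton_apply, smul_smul] at hpq
    have := hfree (p * a - q * a) (by rw [sub_smul, hpq, sub_self])
    exact hau.mul_right_cancel (sub_eq_zero.1 this)
  · obtain ⟨r, rfl⟩ := Submodule.mem_span_singleton.1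
      (show w ∈ Submodule.span (X.presheaf.stalk ξ) {t} by rw [ht]; trivial)
    refine ⟨r * hau.unit⁻¹.1, ?_⟩
    rw [LinearMap.toSpanSingleton_apply, smul_smul, mul_assoc, IsUnit.val_inv_mul, mul_one]

theorem subsingleton_tensor {M : X.Modules} (y : X) [Subsingleton (M.presheaf.stalk y)] (L : X.Modules) :
    Subsingleton ((CohB1.tensorMod M L).presheaf.stalk y) := by
  haveI : Subsingleton (M.presheaf.stalk y ⊗[X.presheaf.stalk y] L.presheaf.stalk y) :=
    subsingleton_of_forall_eq 0 fun t => by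
      induction t using TensorProduct.induction_on with
      | zero => rfl
      | tmul c a => rw [Subsingleton.elim c 0, TensorProduct.zero_tmul]
      | add s t hs ht => rw [hs, ht, add_zero]
  exact (TStalk.tS y M L).injective.subsingleton

theorem inj_twist {M : X.Modules} (T : Gen.Line ξ M) (hL : PicF.IsInvertible L) {y : X} (hy : ξ ⤳ y) :
    Function.Injective ((CohB1.tensorMod M L).presheaf.stalkSpecializes hy) := by
  let ML := CohB1.tensorMod M L
  let φ : ML ⟶ Devissage.Sky.sky ξ (ML.presheaf.stalk ξ) :=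
    Devissage.Sky.toSky (LinearMap.id (R := X.presheaf.stalk ξ))
  let N := kernel φ
  have hφ : ∀ z, stalkMapₗ φ ξ z = Devissage.Sky.stalkEquiv ξ _ z := fun z => by
    simp only [φ, Devissage.Sky.stalkMapₗ_toSky]
    rfl
  have hNξ : Subsingleton (N.presheaf.stalk ξ) := subsingleton_of_forall_eq 0 fun z => by
    refine (mono_iff_stalkMapₗ_injective (kernel.ι φ)).1 inferInstance ξ ?_
    refine (Devissage.Sky.stalkEquiv ξ (ML.presheaf.stalk ξ)).injective ?_
    rw [map_zero, map_zero, ← hφ, ← LinearMap.comp_apply, ← stalkMapₗ_comp, kernel.condition,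
      stalkMapₗ_zero, LinearMap.zero_apply]
  let L' := TensorMod.Dual.dual L
  have hL' : PicF.IsInvertible L' := TensorMod.Invertible.isInvertible_dual hL
  haveI := CurveBundle.Twist.isEquivalence hL'
  let j : CohB1.tensorMod N L' ⟶ M :=
    tmap (kernel.ι φ) (𝟙 L') ≫ (assoc M L L').hom ≫
      tmap (𝟙 M) (TensorMod.Invertible.tensorDualIso hL).hom ≫ (rightUnit M).hom
  haveI : Mono (tmap (kernel.ι φ) (𝟙 L')) := inferInstanceAs (Mono ((tensorBy L').map (kernel.ι φ)))
  haveI : IsIso (tmap (𝟙 M) (TensorMod.Invertible.tensorDualIso hL).hom) :=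
    inferInstanceAs (IsIso (tensorIso (Iso.refl M) (TensorMod.Invertible.tensorDualIso hL)).hom)
  haveI : Mono j := mono_comp _ _
  haveI := hNξ
  haveI := subsingleton_tensor (M := N) ξ L'
  have hN : Subsingleton (N.presheaf.stalk y) := by
    have h1 : Subsingleton ((CohB1.tensorMod N L').presheaf.stalk y) :=
      subsingleton_of_forall_eq 0 fun z => by
        refine (mono_iff_stalkMapₗ_injective j).1 inferInstance y (T.inj y hy ?_)
        rw [← Retr.Additive.stalkMap_specializes j hy z, map_zero, map_zero,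
          Subsingleton.elim ((CohB1.tensorMod N L').presheaf.stalkSpecializes hy z) 0, map_zero]
    haveI : Subsingleton ((CohB1.tensorMod L' N).presheaf.stalk y) :=
      (stalkLinearEquiv (TensorMod.Basic.comm N L') y).symm.injective.subsingleton
    exact (Snapper.Twist.exists_stalkEquiv_twist hL' N y).some.symm.injective.subsingleton
  rw [injective_iff_map_eq_zero]
  intro v hv
  have e1 := (ShortComplex.ab_exact_iff_function_exact _).mp ((Modules.Stalk.exact_iff_stalk _).mp
    (ShortComplex.exact_kernel φ) y)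
  have : stalkMapₗ φ y v = 0 := by
    refine Retr.Witness.sky_specializes_injective _ hy ?_
    rw [← Retr.Additive.stalkMap_specializes φ hy v, map_zero, hv, map_zero]
  obtain ⟨w, rfl⟩ := (e1 v).1 this
  exact (congrArg (stalkMapₗ (kernel.ι φ) y) (Subsingleton.elim (α := N.presheaf.stalk y) w 0)).trans
    (map_zero _)

/-- Twisting by an invertible module with a chosen basis at `ξ`. -/
noncomputable def twist {M : X.Modules} (T : Gen.Line ξ M) (hL : PicF.IsInvertible L)
    (v : L.presheaf.stalk ξ) (hv : IsBasis L v) : Gen.Line ξ (CohB1.tensorMod M L) where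
  e := (TStalk.tS ξ M L).trans (((TensorProduct.congr (LinearEquiv.refl _ _)
    (LinearEquiv.ofBijective _ hv).symm).trans (TensorProduct.rid _ _)).trans T.e)
  supp y h := haveI := T.supp y h; subsingleton_tensor y L
  inj _ h := inj_twist T hL h

theorem twist_e {M : X.Modules} (T : Gen.Line ξ M) (hL : PicF.IsInvertible L)
    (v : L.presheaf.stalk ξ) (hv : IsBasis L v) (a : M.presheaf.stalk ξ) (r : X.presheaf.stalk ξ) :
    (twist T hL v hv).e ((TStalk.tS ξ M L).symm (a ⊗ₜ (r • v))) = r • T.e a := by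
  simp only [twist, LinearEquiv.trans_apply, LinearEquiv.apply_symm_apply, TensorProduct.congr_tmul,
    LinearEquiv.refl_apply, TensorProduct.rid_tmul, map_smul]
  rw [show (LinearEquiv.ofBijective _ hv).symm v = 1 from
    (LinearEquiv.symm_apply_eq _).2 (by simp [LinearMap.toSpanSingleton_apply])]
  simp

theorem twist_scale {M : X.Modules} (T : Gen.Line ξ M) (hL : PicF.IsInvertible L)
    (v : L.presheaf.stalk ξ) (hv : IsBasis L v) (c : (X.presheaf.stalk ξ)ˣ)
    (z : (CohB1.tensorMod M L).presheaf.stalk ξ) :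
    (twist (scale T c) hL v hv).e z = (scale (twist T hL v hv) c).e z := rfl

/-- Twisting is natural. -/
theorem twist_natural {I M : X.Modules} (T : Gen.Line ξ M) (hL : PicF.IsInvertible L)
    (v : L.presheaf.stalk ξ) (hv : IsBasis L v) (f : I ⟶ M)
    (z : (CohB1.tensorMod I L).presheaf.stalk ξ) :
    (twist T hL v hv).e (stalkMapₗ (tmap f (𝟙 L)) ξ z) =
      TensorProduct.rid (X.presheaf.stalk ξ) _
        (TensorProduct.map (T.e.toLinearMap ∘ₗ stalkMapₗ f ξ)
          (LinearEquiv.ofBijective _ hv).symm.toLinearMap (TStalk.tS ξ I L z)) := by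
  simp only [twist, LinearEquiv.trans_apply, TStalk.tS_natural]
  generalize TStalk.tS ξ I L z = t
  induction t using TensorProduct.induction_on with
  | zero => simp
  | tmul a b => simp
  | add t t' h₁ h₂ => simp only [map_add, h₁, h₂]

theorem span_basis (hL : PicF.IsInvertible L) {x : X} (h : ξ ⤳ x) {t : L.presheaf.stalk x}
    (ht : Submodule.span (X.presheaf.stalk x) {t} = ⊤) {v : L.presheaf.stalk ξ} (hv : IsBasis L v) :
    ∃ c : (X.presheaf.stalk ξ)ˣ, L.presheaf.stalkSpecializes h t = (c : X.presheaf.stalk ξ) • v := by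
  obtain ⟨r, hr⟩ := hv.2 (L.presheaf.stalkSpecializes h t)
  rw [LinearMap.toSpanSingleton_apply] at hr
  obtain ⟨q, hq⟩ := Submodule.mem_span_singleton.1
    (show v ∈ Submodule.span (X.presheaf.stalk ξ) {L.presheaf.stalkSpecializes h t} by
      rw [C1Indep.span_stalkSpecializes hL h ht]; trivial)
  have h1 : q * r = 1 := hv.1 (by simp [LinearMap.toSpanSingleton_apply, mul_smul, hr, hq])
  exact ⟨⟨r, q, by rw [mul_comm, h1], h1⟩, hr.symm⟩

/-- The image of a twist. -/
theorem img_twist {M : X.Modules} (T : Gen.Line ξ M) (hL : PicF.IsInvertible L)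
    (v : L.presheaf.stalk ξ) (hv : IsBasis L v) {x : X} (h : ξ ⤳ x) {t : L.presheaf.stalk x}
    (ht : Submodule.span (X.presheaf.stalk x) {t} = ⊤) {c : X.presheaf.stalk ξ}
    (hc : L.presheaf.stalkSpecializes h t = c • v) :
    img (twist T hL v hv) h = (fun w => c • w) '' img T h := by
  have key : ∀ a : M.presheaf.stalk x,
      (twist T hL v hv).e ((CohB1.tensorMod M L).presheaf.stalkSpecializes h
        ((TStalk.tS x M L).symm (a ⊗ₜ t))) = c • T.e (M.presheaf.stalkSpecializes h a) := by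
    intro a
    rw [← twist_e T hL v hv]
    congr 1
    rw [LinearEquiv.eq_symm_apply, TStalk.tS_specializes, hc]
  have hgen : ∀ z : (CohB1.tensorMod M L).presheaf.stalk x,
      ∃ a : M.presheaf.stalk x, (TStalk.tS x M L).symm (a ⊗ₜ t) = z := fun z => by
    obtain ⟨w, rfl⟩ := (TStalk.tS x M L).symm.surjective z
    induction w using TensorProduct.induction_on with
    | zero => exact ⟨0, by rw [TensorProduct.zero_tmul]⟩
    | tmul a b =>
      obtain ⟨r, rfl⟩ := Submodule.mem_span_singleton.1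
        (show b ∈ Submodule.span (X.presheaf.stalk x) {t} by rw [ht]; trivial)
      exact ⟨r • a, by rw [TensorProduct.smul_tmul]⟩
    | add w w' h₁ h₂ =>
      obtain ⟨a, ha⟩ := h₁
      obtain ⟨a', ha'⟩ := h₂
      exact ⟨a + a', by rw [TensorProduct.add_tmul, map_add, ha, ha', map_add]⟩
  ext w
  constructor
  · rintro ⟨z, rfl⟩
    obtain ⟨a, rfl⟩ := hgen z
    exact ⟨_, ⟨a, rfl⟩, (key a).symm⟩
  · rintro ⟨_, ⟨a, rfl⟩, rfl⟩
    exact ⟨_, key a⟩

/-- Twists by two invertible modules commute. -/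
theorem exists_swap {M N : X.Modules} (T : Gen.Line ξ M) (hL : PicF.IsInvertible L)
    (hN : PicF.IsInvertible N) (v : L.presheaf.stalk ξ) (hv : IsBasis L v)
    (w : N.presheaf.stalk ξ) (hw : IsBasis N w) :
    ∃ f : CohB1.tensorMod (CohB1.tensorMod M L) N ≅ CohB1.tensorMod (CohB1.tensorMod M N) L,
      ∀ z, (twist (twist T hN w hw) hL v hv).e (stalkMapₗ f.hom ξ z) =
        (twist (twist T hL v hv) hN w hw).e z := by
  refine exists_iso _ _ fun x hx => ?_
  obtain ⟨t, ht, -⟩ := C1Indep.exists_free_gen hL x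
  obtain ⟨t', ht', -⟩ := C1Indep.exists_free_gen hN x
  obtain ⟨c, hc⟩ := span_basis hL hx ht hv
  obtain ⟨c', hc'⟩ := span_basis hN hx ht' hw
  rw [img_twist _ hN w hw hx ht' hc', img_twist _ hL v hv hx ht hc, img_twist _ hL v hv hx ht hc,
    img_twist _ hN w hw hx ht' hc', Set.image_image, Set.image_image]
  simp only [smul_smul, mul_comm]

end Groth.Agent.Lib.Cyc.C1K.Lines
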