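import Groth.Agent.Lib.Cyc.C1K.Lines
import Groth.Agent.Lib.Cyc.C1K.Main

/-!
# The index class of a family of lines; twisting commutes with principal divisors and with itself
-/

set_option autoImplicit false
set_option linter.style.haveILetI false
universe u

open CategoryTheory CategoryTheory.Limits AlgebraicGeometry IsLocalRing

namespace Groth.Agent.Lib.Cyc.C1K.Index

open Groth.Agent.Lib Groth.Agent.Lib.Cyc Groth.Agent.Lib.Modules.StalkModule
  Groth.Agent.Lib.TensorMod.Basic

variable {X : Scheme.{u}} {ι : Type u} {ξ : ι → X}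

theorem sigma_map_comp {A B C : ι → X.Modules} (f : ∀ i, A i ⟶ B i) (g : ∀ i, B i ⟶ C i) :
    Limits.Sigma.map f ≫ Limits.Sigma.map g = Limits.Sigma.map fun i => f i ≫ g i := by
  refine Limits.Sigma.hom_ext _ _ fun i => ?_
  simp

/-- A line for every index. -/
abbrev Fam (ξ : ι → X) (M : ι → X.Modules) := ∀ i, Gen.Line (ξ i) (M i)

/-- The index class of a family of lines. -/
noncomputable def idxCl (δ : X → ℤ) (k b : ℤ) {M : ι → X.Modules} (T : Fam ξ M) :
    Cyc.K0CohQuot δ k b :=
  Cyc.toK0CohQuot δ k b (cokernel (Limits.Sigma.map fun i => Gen.quot (T i))) -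
    Cyc.toK0CohQuot δ k b (cokernel (Limits.Sigma.map fun i => Gen.incl (T i)))

/-- Injections with the same image at the generic points. -/
structure Pair {I M N : ι → X.Modules} (T : Fam ξ M) (S : Fam ξ N) (f : ∀ i, I i ⟶ M i)
    (g : ∀ i, I i ⟶ N i) : Prop where
  coh : ∀ i, Coh.IsCoh (I i)
  monoF : ∀ i, Mono (f i)
  monoG : ∀ i, Mono (g i)
  surjF : ∀ i, Function.Surjective (stalkMapₗ (f i) (ξ i))
  surjG : ∀ i, Function.Surjective (stalkMapₗ (g i) (ξ i))
  comm : ∀ i z, (T i).e (stalkMapₗ (f i) (ξ i) z) = (S i).e (stalkMapₗ (g i) (ξ i) z)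

variable [IsLocallyNoetherian X] {δ : X → ℤ} {k b : ℤ} (hδ : Cyc.IsDimFun X δ) (hlf : Family.LF ξ)
  (hξ : ∀ i, δ (ξ i) = k + 1)

include hδ hlf hξ in
theorem sigma_spec {A B : ι → X.Modules} (g : ∀ i, A i ⟶ B i) [∀ i, Mono (g i)]
    (hA : ∀ i, Coh.IsCoh (A i)) (hB : ∀ i, Coh.IsCoh (B i)) (hsupp : Family.OnCl ξ B)
    (hs : ∀ i, Function.Surjective (stalkMapₗ (g i) (ξ i))) :
    Mono (Limits.Sigma.map g) ∧ Cyc.CohLe δ k (cokernel (Limits.Sigma.map g)) :=
  have h := Family.sigma_map_spec hlf hδ g hsupp fun i =>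
    Gen.cohLe_cokernel hδ (hξ i) (g i) (hA i) (hB i) (hsupp i) (hs i)
  ⟨h.1, h.2.1⟩

include hδ hlf hξ in
theorem idx_sub_eq {I M N : ι → X.Modules} {T : Fam ξ M} {S : Fam ξ N} {f : ∀ i, I i ⟶ M i}
    {g : ∀ i, I i ⟶ N i} (h : Pair T S f g) (hM : ∀ i, Coh.IsCoh (M i)) (hN : ∀ i, Coh.IsCoh (N i)) :
    idxCl δ k b S - idxCl δ k b T =
      Cyc.toK0CohQuot δ k b (cokernel (Limits.Sigma.map g)) -
        Cyc.toK0CohQuot δ k b (cokernel (Limits.Sigma.map f)) := by
  let O : ι → X.Modules := fun i => Cyc.closureStructureSheaf (ξ i)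
  haveI : ∀ i, Mono (f i) := h.monoF
  haveI : ∀ i, Mono (g i) := h.monoG
  haveI : ∀ i, Mono (Gen.toK (T i)) := fun i => Gen.mono_toK (T i)
  haveI : ∀ i, Mono (Gen.toK (S i)) := fun i => Gen.mono_toK (S i)
  haveI : ∀ i, Mono (Retr.Witness.toK (ξ i) 1) := fun i => Retr.Witness.mono_toK (ξ i) isUnit_one
  haveI : ∀ i, Mono (Gen.quot (T i)) := fun i => Gen.mono_quot (T i)
  haveI : ∀ i, Mono (Gen.quot (S i)) := fun i => Gen.mono_quot (S i)
  have hI : Family.OnCl ξ I := fun i y hy =>
    haveI := (T i).supp y hy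
    ((mono_iff_stalkMapₗ_injective (f i)).1 inferInstance y).subsingleton
  have hfg : ∀ i, f i ≫ Gen.toK (T i) = g i ≫ Gen.toK (S i) := fun i =>
    Lines.sky_hom_ext (hI i) fun z => by
      rw [stalkMapₗ_comp, stalkMapₗ_comp, LinearMap.comp_apply, LinearMap.comp_apply,
        ← Lines.toK_self, ← Lines.toK_self, h.comm]
  let aT := fun i => Gen.incl (T i) ≫ Retr.Witness.toK (ξ i) 1
  let aS := fun i => Gen.incl (S i) ≫ Retr.Witness.toK (ξ i) 1
  haveI : ∀ i, Mono (aT i) := fun i => mono_comp _ _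
  haveI : ∀ i, Mono (aS i) := fun i => mono_comp _ _
  have saT : ∀ i, Function.Surjective (stalkMapₗ (aT i) (ξ i)) := fun i => by
    rw [show aT i = Gen.quot (T i) ≫ Gen.toK (T i) from (Gen.quot_comp (T i)).symm, stalkMapₗ_comp]
    exact (Lines.surjective_toK_self (T i)).comp (Gen.surjective_quot_self (T i))
  have saS : ∀ i, Function.Surjective (stalkMapₗ (aS i) (ξ i)) := fun i => by
    rw [show aS i = Gen.quot (S i) ≫ Gen.toK (S i) from (Gen.quot_comp (S i)).symm, stalkMapₗ_comp]
    exact (Lines.surjective_toK_self (S i)).comp (Gen.surjective_quot_self (S i))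
  let bb := fun i => f i ≫ Gen.toK (T i)
  have sb : ∀ i, Function.Surjective (stalkMapₗ (bb i) (ξ i)) := fun i => by
    rw [stalkMapₗ_comp]
    exact (Lines.surjective_toK_self (T i)).comp (h.surjF i)
  haveI : ∀ i, Mono (bb i) := fun i => mono_comp _ _
  let q1 := fun i => Lines.interSnd (aT i) (bb i)
  let p1 := fun i => Lines.interFst (aT i) (bb i)
  haveI : ∀ i, Mono (p1 i) := fun i => Lines.mono_interFst _ _
  haveI : ∀ i, Mono (q1 i ≫ bb i) := fun i => mono_comp _ _
  have s1 := fun i => Lines.surjective_inter (aT i) (bb i) (saT i) (sb i)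
  have sb' : ∀ i, Function.Surjective (stalkMapₗ (q1 i ≫ bb i) (ξ i)) := fun i => by
    rw [stalkMapₗ_comp]
    exact (sb i).comp (s1 i).1
  let q2 := fun i => Lines.interSnd (aS i) (q1 i ≫ bb i)
  let p2 := fun i => Lines.interFst (aS i) (q1 i ≫ bb i)
  haveI : ∀ i, Mono (p2 i) := fun i => Lines.mono_interFst _ _
  have s2 := fun i => Lines.surjective_inter (aS i) (q1 i ≫ bb i) (saS i) (sb' i)
  have hI2 : ∀ i, Coh.IsCoh (Lines.inter (aS i) (q1 i ≫ bb i)) := fun i =>
    Lines.isCoh_inter _ _ (Retr.Witness.isQCoh_target (ξ i)) (Gen.isCoh_J _ (hN i))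
      (Lines.isCoh_inter _ _ (Retr.Witness.isQCoh_target (ξ i)) (Gen.isCoh_J _ (hM i)) (h.coh i))
  let m1 := fun i => q2 i ≫ p1 i
  let m := fun i => q2 i ≫ q1 i
  haveI : ∀ i, Mono (m1 i) := fun i => mono_comp _ _
  haveI : ∀ i, Mono (m i) := fun i => mono_comp _ _
  have sm1 : ∀ i, Function.Surjective (stalkMapₗ (m1 i) (ξ i)) := fun i => by
    rw [stalkMapₗ_comp]
    exact (s1 i).2.comp (s2 i).1
  have sm : ∀ i, Function.Surjective (stalkMapₗ (m i) (ξ i)) := fun i => by
    rw [stalkMapₗ_comp]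
    exact (s1 i).1.comp (s2 i).1
  have e1 : ∀ i, m1 i ≫ aT i = m i ≫ bb i := fun i => by
    simp only [m1, m, Category.assoc, p1, q1, Lines.interFst_comp]
  have e2 : ∀ i, p2 i ≫ aS i = m i ≫ bb i := fun i => by
    simp only [m, Category.assoc, p2, q2, q1, Lines.interFst_comp]
  have eincl : ∀ i, m1 i ≫ Gen.incl (T i) = p2 i ≫ Gen.incl (S i) := fun i => by
    rw [← cancel_mono (Retr.Witness.toK (ξ i) 1), Category.assoc, Category.assoc]
    exact (e1 i).trans (e2 i).symm
  have eT : ∀ i, m1 i ≫ Gen.quot (T i) = m i ≫ f i := fun i => by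
    rw [← cancel_mono (Gen.toK (T i)), Category.assoc, Category.assoc, Gen.quot_comp]
    exact e1 i
  have eS : ∀ i, p2 i ≫ Gen.quot (S i) = m i ≫ g i := fun i => by
    rw [← cancel_mono (Gen.toK (S i)), Category.assoc, Category.assoc, Gen.quot_comp, ← hfg]
    exact e2 i
  have hO : Family.OnCl ξ O := fun i y hy => Retr.Witness.stalk_trivial_of_not_specializes hy
  have hMs : Family.OnCl ξ M := fun i => (T i).supp
  have hNs : Family.OnCl ξ N := fun i => (S i).supp
  have hJT : Family.OnCl ξ fun i => Gen.J (T i) := fun i y hy => Gen.stalk_trivial_J (T i) hy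
  have hJS : Family.OnCl ξ fun i => Gen.J (S i) := fun i y hy => Gen.stalk_trivial_J (S i) hy
  have cJT := fun i => Gen.isCoh_J (T i) (hM i)
  have cJS := fun i => Gen.isCoh_J (S i) (hN i)
  have cO : ∀ i, Coh.IsCoh (O i) := fun i => Devissage.Closure.isCoh_closureStructureSheaf _
  have comp : ∀ {A B C : ι → X.Modules} (u : ∀ i, A i ⟶ B i) (v : ∀ i, B i ⟶ C i)
      [∀ i, Mono (u i)] [∀ i, Mono (v i)],
      (∀ i, Coh.IsCoh (A i)) → (∀ i, Coh.IsCoh (B i)) → (∀ i, Coh.IsCoh (C i)) → Family.OnCl ξ B →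
      Family.OnCl ξ C → (∀ i, Function.Surjective (stalkMapₗ (u i) (ξ i))) →
      (∀ i, Function.Surjective (stalkMapₗ (v i) (ξ i))) →
      Cyc.toK0CohQuot δ k b (cokernel (Limits.Sigma.map fun i => u i ≫ v i)) =
        Cyc.toK0CohQuot δ k b (cokernel (Limits.Sigma.map u)) +
          Cyc.toK0CohQuot δ k b (cokernel (Limits.Sigma.map v)) := by
    intro A B C u v _ _ cA cB cC oB oC su sv
    obtain ⟨-, hu⟩ := sigma_spec hδ hlf hξ u cA cB oB su
    obtain ⟨hmv, hv⟩ := sigma_spec hδ hlf hξ v cB cC oC sv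
    obtain ⟨-, huv⟩ := sigma_spec hδ hlf hξ (fun i => u i ≫ v i) cA cC oC fun i => by
      rw [stalkMapₗ_comp]; exact (sv i).comp (su i)
    haveI := hmv
    rw [← sigma_map_comp] at huv ⊢
    exact Lines.cl_comp _ _ hu huv hv
  have r1 := comp m1 (fun i => Gen.incl (T i)) hI2 cJT cO hJT hO sm1 fun i => Gen.surjective_incl_self _
  have r2 := comp p2 (fun i => Gen.incl (S i)) hI2 cJS cO hJS hO (fun i => (s2 i).2) fun i => Gen.surjective_incl_self _
  have r3 := comp m1 (fun i => Gen.quot (T i)) hI2 cJT hM hJT hMs sm1 fun i => Gen.surjective_quot_self _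
  have r4 := comp p2 (fun i => Gen.quot (S i)) hI2 cJS hN hJS hNs (fun i => (s2 i).2) fun i => Gen.surjective_quot_self _
  have r5 := comp m f hI2 h.coh hM hI hMs sm h.surjF
  have r6 := comp m g hI2 h.coh hN hI hNs sm h.surjG
  rw [funext eincl] at r1
  rw [funext eT, r5] at r3
  rw [funext eS, r6] at r4
  have r12 := r1.symm.trans r2
  simp only [idxCl]
  linear_combination (norm := abel) r12 + r3 - r4

omit [IsLocallyNoetherian X] in
theorem cl_coker_iso {M N : ι → X.Modules} (e : ∀ i, M i ≅ N i) :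
    Cyc.toK0CohQuot δ k b (cokernel (Limits.Sigma.map fun i => (e i).hom)) = 0 := by
  haveI : IsIso (Limits.Sigma.map fun i => (e i).hom) :=
    inferInstanceAs (IsIso (Limits.Sigma.mapIso e).hom)
  have hz : IsZero (cokernel (Limits.Sigma.map fun i => (e i).hom)) := isZero_cokernel_of_epi _
  exact K0.Cycles.mk_eq_zero δ k b ⟨KRes.CohP.isCoh_of_isZero X hz, fun x hx => absurd hx (by
    rw [not_nontrivial_iff_subsingleton]
    exact AddCommGrpCat.subsingleton_of_isZero ((Modules.Stalk.stalkFunctor X x).map_isZero hz))⟩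

include hδ hlf hξ in
theorem idx_eq_of_iso {M N : ι → X.Modules} {T : Fam ξ M} {S : Fam ξ N} (e : ∀ i, M i ≅ N i)
    (h : ∀ i z, (S i).e (stalkMapₗ (e i).hom (ξ i) z) = (T i).e z) (hM : ∀ i, Coh.IsCoh (M i)) :
    idxCl δ k b S = idxCl δ k b T := by
  have hN : ∀ i, Coh.IsCoh (N i) := fun i => CohBasics.Closure.isCoh_of_iso (e i) (hM i)
  have hp : Pair T S (fun i => (Iso.refl (M i)).hom) (fun i => (e i).hom) :=
    { coh := hM
      monoF := fun i => inferInstance
      monoG := fun i => inferInstance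
      surjF := fun i v => ⟨v, by rw [Iso.refl_hom, stalkMapₗ_id]; rfl⟩
      surjG := fun i => ((isIso_iff_stalkMapₗ_bijective (e i).hom).1 inferInstance (ξ i)).2
      comm := fun i z => by rw [h, Iso.refl_hom, stalkMapₗ_id]; rfl }
  rw [← sub_eq_zero, idx_sub_eq hδ hlf hξ hp hM hN, cl_coker_iso,
    cl_coker_iso (fun i => Iso.refl (M i)), sub_zero]

include hδ hlf hξ in
/-- Rescaling does not change differences of index classes. -/
theorem idx_scale {M N : ι → X.Modules} (T : Fam ξ M) (S : Fam ξ N)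
    (c : ∀ i, (X.presheaf.stalk (ξ i))ˣ) (hM : ∀ i, Coh.IsCoh (M i)) (hN : ∀ i, Coh.IsCoh (N i)) :
    idxCl δ k b (fun i => Lines.scale (S i) (c i)) - idxCl δ k b (fun i => Lines.scale (T i) (c i)) =
      idxCl δ k b S - idxCl δ k b T := by
  haveI : ∀ i, Mono (Gen.toK (T i)) := fun i => Gen.mono_toK (T i)
  haveI : ∀ i, Mono (Gen.toK (S i)) := fun i => Gen.mono_toK (S i)
  let f := fun i => Lines.interFst (Gen.toK (T i)) (Gen.toK (S i))
  let g := fun i => Lines.interSnd (Gen.toK (T i)) (Gen.toK (S i))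
  have s := fun i => Lines.surjective_inter (Gen.toK (T i)) (Gen.toK (S i))
    (Lines.surjective_toK_self (T i)) (Lines.surjective_toK_self (S i))
  have hc : ∀ i z, (T i).e (stalkMapₗ (f i) (ξ i) z) = (S i).e (stalkMapₗ (g i) (ξ i) z) := fun i z => by
    refine (Devissage.Sky.stalkEquiv (ξ i) _).injective ?_
    rw [Lines.toK_self, Lines.toK_self, ← LinearMap.comp_apply, ← stalkMapₗ_comp,
      ← LinearMap.comp_apply, ← stalkMapₗ_comp, Lines.interFst_comp]
  have hp : Pair T S f g :=
    { coh := fun i => Lines.isCoh_inter _ _ (Retr.Witness.isQCoh_target (ξ i)) (hM i) (hN i)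
      monoF := fun i => Lines.mono_interFst _ _
      monoG := fun i => inferInstanceAs (Mono (Lines.interSnd _ _))
      surjF := fun i => (s i).2
      surjG := fun i => (s i).1
      comm := hc }
  have hp' : Pair (fun i => Lines.scale (T i) (c i)) (fun i => Lines.scale (S i) (c i)) f g :=
    { coh := hp.coh
      monoF := hp.monoF
      monoG := hp.monoG
      surjF := hp.surjF
      surjG := hp.surjG
      comm := fun i z => by rw [Lines.scale_e, Lines.scale_e, hc] }
  rw [idx_sub_eq hδ hlf hξ hp hM hN, idx_sub_eq hδ hlf hξ hp' hM hN]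

section Twist

variable {L : X.Modules} (hL : PicF.IsInvertible L) (v : ∀ i, L.presheaf.stalk (ξ i))
  (hv : ∀ i, Lines.IsBasis L (v i))

/-- Twist of a family. -/
noncomputable def twist {M : ι → X.Modules} (T : Fam ξ M) :
    Fam ξ fun i => CohB1.tensorMod (M i) L :=
  fun i => Lines.twist (T i) hL (v i) (hv i)

omit [IsLocallyNoetherian X] in
theorem pair_twist {I M N : ι → X.Modules} {T : Fam ξ M} {S : Fam ξ N} {f : ∀ i, I i ⟶ M i}
    {g : ∀ i, I i ⟶ N i} (h : Pair T S f g) :
    Pair (twist hL v hv T) (twist hL v hv S) (fun i => tmap (f i) (𝟙 L)) (fun i => tmap (g i) (𝟙 L)) := by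
  haveI := CurveBundle.Twist.isEquivalence hL
  have surj : ∀ i {A B : X.Modules} (u : A ⟶ B), Function.Surjective (stalkMapₗ u (ξ i)) →
      Function.Surjective (stalkMapₗ (tmap u (𝟙 L)) (ξ i)) := fun i A B u hu w => by
    obtain ⟨z, hz⟩ := LinearMap.rTensor_surjective (L.presheaf.stalk (ξ i)) hu (TStalk.tS _ B L w)
    refine ⟨(TStalk.tS _ A L).symm z, (TStalk.tS _ B L).injective ?_⟩
    rw [TStalk.tS_natural, LinearEquiv.apply_symm_apply, hz]
  exact
    { coh := fun i => CurveBundle.Twist.isCoh hL (h.coh i)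
      monoF := fun i => haveI := h.monoF i; inferInstanceAs (Mono ((tensorBy L).map (f i)))
      monoG := fun i => haveI := h.monoG i; inferInstanceAs (Mono ((tensorBy L).map (g i)))
      surjF := fun i => surj i _ (h.surjF i)
      surjG := fun i => surj i _ (h.surjG i)
      comm := fun i z => by
        rw [twist, twist, Lines.twist_natural, Lines.twist_natural]
        congr 2
        exact congrArg (fun φ => TensorProduct.map φ _) (LinearMap.ext fun a => h.comm i a) }

omit [IsLocallyNoetherian X] in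
include hL in
theorem exists_coker_twist_iso {A B : ι → X.Modules} (g : ∀ i, A i ⟶ B i) :
    Nonempty (CohB1.tensorMod (cokernel (Limits.Sigma.map g)) L ≅
      cokernel (Limits.Sigma.map fun i => tmap (g i) (𝟙 L))) := by
  haveI := CurveBundle.Twist.isEquivalence hL
  let eA := PreservesCoproduct.iso (tensorBy L) A
  let eB := PreservesCoproduct.iso (tensorBy L) B
  let φ : ∀ i, (tensorBy L).obj (A i) ⟶ (tensorBy L).obj (B i) := fun i => (tensorBy L).map (g i)
  show Nonempty ((tensorBy L).obj (cokernel (Limits.Sigma.map g)) ≅ cokernel (Limits.Sigma.map φ))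
  refine ⟨PreservesCokernel.iso (tensorBy L) (Limits.Sigma.map g) ≪≫ cokernel.mapIso _ _ eA eB ?_⟩
  have h : eA.inv ≫ (tensorBy L).map (Limits.Sigma.map g) = Limits.Sigma.map φ ≫ eB.inv := by
    simp only [eA, eB, PreservesCoproduct.inv_hom]
    refine Limits.Sigma.hom_ext _ _ fun i => ?_
    rw [← Category.assoc, ι_comp_sigmaComparison, ← Category.assoc, Limits.Sigma.ι_map, Category.assoc,
      ι_comp_sigmaComparison, ← Functor.map_comp, Limits.Sigma.ι_map, Functor.map_comp]
  rw [← cancel_mono eB.inv, Category.assoc, Category.assoc, eB.hom_inv_id, Category.comp_id, ← h,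
    Iso.hom_inv_id_assoc]

include hL in
theorem cl_coker_twist {A B : ι → X.Modules} (g : ∀ i, A i ⟶ B i)
    (hc : Cyc.CohLe δ k (cokernel (Limits.Sigma.map g))) :
    Cyc.toK0CohQuot δ k b (cokernel (Limits.Sigma.map fun i => tmap (g i) (𝟙 L))) =
      Cyc.toK0CohQuot δ k b (CohB1.tensorMod (cokernel (Limits.Sigma.map g)) L) := by
  obtain ⟨e⟩ := exists_coker_twist_iso hL g
  exact (Retr.K0Tools.cl_iso e (Main.cohLe_twist hL hc)
    (CohBasics.Closure.isCoh_of_iso e (Main.cohLe_twist hL hc).1)).symm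

include hδ hlf hξ in
/-- The twist of a difference of index classes. -/
theorem idx_twist_sub {I M N : ι → X.Modules} {T : Fam ξ M} {S : Fam ξ N} {f : ∀ i, I i ⟶ M i}
    {g : ∀ i, I i ⟶ N i} (h : Pair T S f g) (hM : ∀ i, Coh.IsCoh (M i)) (hN : ∀ i, Coh.IsCoh (N i)) :
    idxCl δ k b (twist hL v hv S) - idxCl δ k b (twist hL v hv T) =
      Cyc.toK0CohQuot δ k b (CohB1.tensorMod (cokernel (Limits.Sigma.map g)) L) -
        Cyc.toK0CohQuot δ k b (CohB1.tensorMod (cokernel (Limits.Sigma.map f)) L) := by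
  haveI := h.monoF
  haveI := h.monoG
  rw [idx_sub_eq hδ hlf hξ (pair_twist hL v hv h) (fun i => CurveBundle.Twist.isCoh hL (hM i))
      (fun i => CurveBundle.Twist.isCoh hL (hN i)),
    cl_coker_twist hL g (sigma_spec hδ hlf hξ g h.coh hN (fun i => (S i).supp) h.surjG).2,
    cl_coker_twist hL f (sigma_spec hδ hlf hξ f h.coh hM (fun i => (T i).supp) h.surjF).2]

end Twist

/-- The closures as a family of lines. -/
noncomputable def base (ξ : ι → X) : Fam ξ fun i => Cyc.closureStructureSheaf (ξ i) :=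
  fun i => Lines.base (ξ i)

omit [IsLocallyNoetherian X] in
/-- The tautological pair of a line. -/
theorem pair_base {M : ι → X.Modules} (T : Fam ξ M) [IsLocallyNoetherian X]
    (hM : ∀ i, Coh.IsCoh (M i)) :
    Pair (base ξ) T (fun i => Gen.incl (T i)) (fun i => Gen.quot (T i)) :=
  { coh := fun i => Gen.isCoh_J (T i) (hM i)
    monoF := fun i => inferInstanceAs (Mono (Gen.incl (T i)))
    monoG := fun i => Gen.mono_quot (T i)
    surjF := fun i => Gen.surjective_incl_self (T i)
    surjG := fun i => Gen.surjective_quot_self (T i)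
    comm := fun i z => by
      have := Gen.quot_stalk (T i) specializes_rfl z
      rw [TopCat.Presheaf.stalkSpecializes_refl, TopCat.Presheaf.stalkSpecializes_refl] at this
      exact this.symm }

/-- `[M ⊗ L] - [M]`. -/
noncomputable def tw (δ : X → ℤ) (k b : ℤ) (L M : X.Modules) : Cyc.K0CohQuot δ k b :=
  Cyc.toK0CohQuot δ k b (CohB1.tensorMod M L) - Cyc.toK0CohQuot δ k b M

/-- The divisor of a line relative to the closure. -/
noncomputable def posPart {M : ι → X.Modules} (T : Fam ξ M) : X.Modules :=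
  cokernel (Limits.Sigma.map fun i => Gen.quot (T i))

/-- The divisor of a line relative to the closure. -/
noncomputable def negPart {M : ι → X.Modules} (T : Fam ξ M) : X.Modules :=
  cokernel (Limits.Sigma.map fun i => Gen.incl (T i))

include hδ hlf hξ in
/-- Twisting kills principal divisors. -/
theorem tw_scale_base {L : X.Modules} (hL : PicF.IsInvertible L) (v : ∀ i, L.presheaf.stalk (ξ i))
    (hv : ∀ i, Lines.IsBasis L (v i)) (c : ∀ i, (X.presheaf.stalk (ξ i))ˣ) :
    tw δ k b L (posPart fun i => Lines.scale (base ξ i) (c i)) =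
      tw δ k b L (negPart fun i => Lines.scale (base ξ i) (c i)) := by
  let B := base ξ
  let C : Fam ξ fun i => Cyc.closureStructureSheaf (ξ i) := fun i => Lines.scale (B i) (c i)
  have cO : ∀ i, Coh.IsCoh (Cyc.closureStructureSheaf (ξ i)) := fun i =>
    Devissage.Closure.isCoh_closureStructureSheaf _
  have hp := pair_base C cO
  have e1 := idx_sub_eq hδ hlf hξ (b := b) hp cO cO
  have e2 := idx_twist_sub hδ hlf hξ hL v hv (b := b) hp cO cO
  have e3 := idx_scale hδ hlf hξ (b := b) B (twist hL v hv B) c cO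
    fun i => CurveBundle.Twist.isCoh hL (cO i)
  have e4 : idxCl δ k b (twist hL v hv C) =
      idxCl δ k b (fun i => Lines.scale (twist hL v hv B i) (c i)) := rfl
  rw [e4] at e2
  simp only [tw, posPart, negPart]
  linear_combination (norm := abel) e1 - e2 + e3

include hδ hlf hξ in
/-- Twisting a divisor of `L` by `N` is symmetric in `L` and `N`. -/
theorem tw_comm {L N : X.Modules} (hL : PicF.IsInvertible L) (hN : PicF.IsInvertible N)
    (v : ∀ i, L.presheaf.stalk (ξ i)) (hv : ∀ i, Lines.IsBasis L (v i))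
    (w : ∀ i, N.presheaf.stalk (ξ i)) (hw : ∀ i, Lines.IsBasis N (w i)) :
    tw δ k b N (posPart (twist hL v hv (base ξ))) - tw δ k b N (negPart (twist hL v hv (base ξ))) =
      tw δ k b L (posPart (twist hN w hw (base ξ))) - tw δ k b L (negPart (twist hN w hw (base ξ))) := by
  have cO : ∀ i, Coh.IsCoh (Cyc.closureStructureSheaf (ξ i)) := fun i =>
    Devissage.Closure.isCoh_closureStructureSheaf _
  let B := base ξ
  let TL := twist hL v hv B
  let TN := twist hN w hw B
  have cL := fun i => CurveBundle.Twist.isCoh hL (cO i)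
  have cN := fun i => CurveBundle.Twist.isCoh hN (cO i)
  have pL := pair_base TL cL
  have pN := pair_base TN cN
  have a1 := idx_sub_eq hδ hlf hξ (b := b) pL cO cL
  have a2 := idx_twist_sub hδ hlf hξ hN w hw (b := b) pL cO cL
  have b1 := idx_sub_eq hδ hlf hξ (b := b) pN cO cN
  have b2 := idx_twist_sub hδ hlf hξ hL v hv (b := b) pN cO cN
  choose φ hφ using fun i => Lines.exists_swap (B i) hL hN (v i) (hv i) (w i) (hw i)
  have e : idxCl δ k b (twist hL v hv TN) = idxCl δ k b (twist hN w hw TL) :=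
    idx_eq_of_iso hδ hlf hξ φ hφ fun i => CurveBundle.Twist.isCoh hN (cL i)
  rw [e] at b2
  simp only [tw, posPart, negPart]
  linear_combination (norm := abel) a1 - a2 - b1 + b2

end Groth.Agent.Lib.Cyc.C1K.Index
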